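import Cfsg.Agent.Coprime.J1.Closure.Split
import Cfsg.Agent.Coprime.Generation
import Cfsg.Agent.Coprime.J1.Uniq.Iso
import Cfsg.Agent.Coprime.J1.ByOrder.Tools
import Cfsg.Agent.S2039

/-!
# The commuting component of `t` generates `J₁`
-/

set_option autoImplicit false
set_option linter.unusedSectionVars false
set_option linter.style.haveILetI false

namespace Cfsg.Agent.Coprime.J1.Closure.Hyp

open Subgroup
open scoped commutatorElement

variable {G : Type*} [Group G] [Finite G] (X : Hyp G)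

/-- The stabiliser of the component. -/
noncomputable def H : Subgroup G := X.W ⊔ normalizer (X.E : Set G)

/-- The component of `t`. -/
def D₀ : Set G := {x | ∃ h ∈ X.H, h * X.t * h⁻¹ = x}

/-- The group generated by the component. -/
def K₀ : Subgroup G := closure X.D₀

theorem W_le_H : X.W ≤ X.H := le_sup_left

theorem N_le_H : normalizer (X.E : Set G) ≤ X.H := le_sup_right

theorem R_le_H : X.R ≤ X.H := fun r hr =>
  X.N_le_H (centralizer_le_normalizer _ (X.mem_CE.2 (X.mem_R.1 hr).1))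

theorem C_le_H {c : G} (hc : c * X.t = X.t * c) : c ∈ X.H := by
  obtain ⟨w, hw, r, hr, rfl⟩ := X.split_C hc
  exact mul_mem (X.W_le_H hw) (X.R_le_H hr)

theorem H_conj_R {h : G} (hh : h ∈ X.H) {r : G} (hr : r ∈ X.R) : h * r * h⁻¹ ∈ X.R := by
  have hle : X.H ≤ normalizer (X.R : Set G) := by
    have key : ∀ (Y : Subgroup G), (∀ y ∈ Y, ∀ r ∈ X.R, y * r * y⁻¹ ∈ X.R) →
        Y ≤ normalizer (X.R : Set G) := by
      intro Y hY y hy
      refine mem_normalizer_iff.2 fun r => ⟨hY y hy r, fun h => ?_⟩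
      have := hY _ (inv_mem hy) _ h
      rwa [show y⁻¹ * (y * r * y⁻¹) * y⁻¹⁻¹ = r by group] at this
    refine sup_le (key _ fun y hy _ hr => ?_) (key _ fun y hy r hr => X.R_conj hy hr)
    rwa [← X.R_comm_W hr hy, mul_inv_cancel_right]
  exact (mem_normalizer_iff.1 (hle hh) r).1 hr

theorem t_mem_D₀ : X.t ∈ X.D₀ := ⟨1, one_mem _, by group⟩

theorem D₀_subset : X.D₀ ⊆ X.D := by
  rintro _ ⟨h, -, rfl⟩
  exact X.conj_mem_D X.t_mem_D h

theorem D₀_mem_H {x : G} (hx : x ∈ X.D₀) : x ∈ X.H := by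
  obtain ⟨h, hh, rfl⟩ := hx
  exact mul_mem (mul_mem hh (X.W_le_H (mem_wcl_self _))) (inv_mem hh)

theorem D₀_conj {h x : G} (hh : h ∈ X.H) (hx : x ∈ X.D₀) : h * x * h⁻¹ ∈ X.D₀ := by
  obtain ⟨k, hk, rfl⟩ := hx
  exact ⟨h * k, mul_mem hh hk, by group⟩

theorem mem_H_of_conj_mem {g : G} (hg : g * X.t * g⁻¹ ∈ X.D₀) : g ∈ X.H := by
  obtain ⟨h, hh, he⟩ := hg
  have hc : h⁻¹ * g * X.t = X.t * (h⁻¹ * g) := by
    calc h⁻¹ * g * X.t = h⁻¹ * (g * X.t * g⁻¹) * g := by group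
      _ = h⁻¹ * (h * X.t * h⁻¹) * g := by rw [he]
      _ = X.t * (h⁻¹ * g) := by group
  have := mul_mem hh (X.C_le_H hc)
  rwa [show h * (h⁻¹ * g) = g by group] at this

theorem mem_D₀_of_W {c : C₀} (hc : c * c = 1) (h1 : c ≠ 1) : X.emb c ∈ X.D₀ := by
  have key : ∀ v : C₀, v ∈ S₀ → v ≠ 1 → ∀ g, X.emb (g * v * g⁻¹) ∈ X.D₀ := by
    intro v hv hv1 g
    obtain ⟨n, hn, hne⟩ := X.exists_conj_t (X.emb_mem_E.2 hv)
      fun h => hv1 (X.emb_inj (h.trans (map_one _).symm))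
    rw [← conj_emb, ← hne]
    exact X.D₀_conj (X.W_le_H (X.emb_mem_W g)) ⟨n, X.N_le_H hn, rfl⟩
  rcases sq_cases c hc with rfl | rfl | ⟨g, rfl⟩ | ⟨g, rfl⟩
  · exact absurd rfl h1
  · exact X.emb_t₀.symm ▸ X.t_mem_D₀
  · exact key _ v₄_mem.1 (fun h => inV_v₄.2 (congrArg Prod.snd h)) g
  · exact key _ v₄_mem.2.1 (fun h => inV_v₄.2 (congrArg Prod.snd h)) g

/-- The component is closed under commuting conjugates. -/
theorem mem_D₀_of_comm {x y : G} (hx : x ∈ X.D₀) (hy : y ∈ X.D) (hc : y * x = x * y) : y ∈ X.D₀ := by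
  obtain ⟨h, hh, rfl⟩ := hx
  have hy' : h⁻¹ * y * h⁻¹⁻¹ ∈ X.D := X.conj_mem_D hy _
  have hc' : h⁻¹ * y * h⁻¹⁻¹ * X.t = X.t * (h⁻¹ * y * h⁻¹⁻¹) := by
    calc h⁻¹ * y * h⁻¹⁻¹ * X.t = h⁻¹ * (y * (h * X.t * h⁻¹)) * h := by group
      _ = h⁻¹ * (h * X.t * h⁻¹ * y) * h := by rw [hc]
      _ = X.t * (h⁻¹ * y * h⁻¹⁻¹) := by group
  obtain ⟨c, hce⟩ := X.exists_emb (X.mem_W_of_comm hy' hc')
  have hc2 : c * c = 1 := X.emb_inj (by rw [map_mul, map_one, hce]; exact X.sq_of_mem_D hy')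
  have hc1 : c ≠ 1 := fun h1 => X.ne_one_of_mem_D hy' (by rw [← hce, h1, map_one])
  have := X.D₀_conj hh (hce ▸ X.mem_D₀_of_W hc2 hc1)
  rwa [show h * (h⁻¹ * y * h⁻¹⁻¹) * h⁻¹ = y by group] at this

theorem R_comm_K₀ {r : G} (hr : r ∈ X.R) {k : G} (hk : k ∈ X.K₀) : r * k = k * r := by
  have hle : X.K₀ ≤ centralizer ({r} : Set G) := by
    refine (closure_le _).2 ?_
    rintro _ ⟨h, hh, rfl⟩
    refine mem_centralizer_singleton_iff.2 ?_
    have h' := X.R_comm_t (X.H_conj_R (inv_mem hh) hr)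
    calc h * X.t * h⁻¹ * r = h * (X.t * (h⁻¹ * r * h⁻¹⁻¹)) * h⁻¹ := by group
      _ = h * (h⁻¹ * r * h⁻¹⁻¹ * X.t) * h⁻¹ := by rw [h']
      _ = r * (h * X.t * h⁻¹) := by group
  exact (mem_centralizer_singleton_iff.1 (hle hk)).symm

theorem K₀_le_H : X.K₀ ≤ X.H := (closure_le _).2 fun _ hx => X.D₀_mem_H hx

theorem H_conj_K₀ {h k : G} (hh : h ∈ X.H) (hk : k ∈ X.K₀) : h * k * h⁻¹ ∈ X.K₀ := by
  have hle : X.K₀.map (MulAut.conj h).toMonoidHom ≤ X.K₀ := by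
    rw [K₀, MonoidHom.map_closure, closure_le]
    rintro _ ⟨x, hx, rfl⟩
    exact subset_closure (X.D₀_conj hh hx)
  exact hle ⟨k, hk, rfl⟩

theorem W_le_K₀ : X.W ≤ X.K₀ := by
  refine (closure_le _).2 fun x ⟨g, hg, hc⟩ => subset_closure (X.mem_D₀_of_comm X.t_mem_D₀ ⟨g, hg⟩ hc)

theorem σ_mem_K₀ : X.σ ∈ X.K₀ := by
  obtain ⟨n, hn, he⟩ := X.σ_eq
  rw [he, commutatorElement_def]
  exact mul_mem (X.H_conj_K₀ (X.N_le_H hn) (X.W_le_K₀ (X.emb_mem_W _)))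
    (inv_mem (X.W_le_K₀ (X.emb_mem_W _)))

/-- `K₀` is transitive on the component. -/
theorem exists_K₀_conj {x : G} (hx : x ∈ X.D₀) : ∃ k ∈ X.K₀, k * X.t * k⁻¹ = x := by
  obtain ⟨h, hh, rfl⟩ := hx
  let P : Subgroup G :=
    { carrier := {g | g ∈ X.H ∧ ∃ k ∈ X.K₀, k * X.t * k⁻¹ = g * X.t * g⁻¹}
      one_mem' := ⟨one_mem _, 1, one_mem _, rfl⟩
      mul_mem' := by
        rintro a b ⟨ha, k, hk, hka⟩ ⟨hb, l, hl, hlb⟩
        refine ⟨mul_mem ha hb, a * l * a⁻¹ * k, mul_mem (X.H_conj_K₀ ha hl) hk, ?_⟩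
        calc a * l * a⁻¹ * k * X.t * (a * l * a⁻¹ * k)⁻¹
            = a * l * a⁻¹ * (k * X.t * k⁻¹) * (a * l * a⁻¹)⁻¹ := by group
          _ = a * (l * X.t * l⁻¹) * a⁻¹ := by rw [hka]; group
          _ = a * b * X.t * (a * b)⁻¹ := by rw [hlb]; group
      inv_mem' := by
        rintro a ⟨ha, k, hk, hka⟩
        refine ⟨inv_mem ha, a⁻¹ * k⁻¹ * a⁻¹⁻¹, X.H_conj_K₀ (inv_mem ha) (inv_mem hk), ?_⟩
        calc a⁻¹ * k⁻¹ * a⁻¹⁻¹ * X.t * (a⁻¹ * k⁻¹ * a⁻¹⁻¹)⁻¹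
            = a⁻¹ * k⁻¹ * (a * X.t * a⁻¹) * k * a := by group
          _ = a⁻¹ * k⁻¹ * (k * X.t * k⁻¹) * k * a := by rw [hka]
          _ = a⁻¹ * X.t * a⁻¹⁻¹ := by group }
  have hP : X.H ≤ P := by
    refine sup_le (fun w hw => ⟨X.W_le_H hw, w, X.W_le_K₀ hw, rfl⟩) fun n hn => ⟨X.N_le_H hn, ?_⟩
    obtain ⟨i, hi⟩ := X.σ_orbit ((mem_normalizer_iff.1 hn X.t).1 X.t_mem_E)
      (X.ne_one_of_mem_D (X.conj_mem_D X.t_mem_D n))
    exact ⟨_, pow_mem X.σ_mem_K₀ i, hi⟩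
  exact (hP hh).2

theorem v₄_commutator : ∃ g h : A, ⁅g, h⁆ = v₄ := by
  simp only [commutatorElement_def]
  decide +kernel

theorem t_mem_commutator {Y : Subgroup G} (hW : X.W ≤ Y) (hY : X.σ ∈ Y) : X.t ∈ ⁅Y, Y⁆ := by
  obtain ⟨g, h, hgh⟩ := v₄_commutator
  have hv : X.el v₄ ∈ ⁅Y, Y⁆ := by
    rw [← hgh, map_commutatorElement]
    exact commutator_mem_commutator (hW (X.emb_mem_W _)) (hW (X.emb_mem_W _))
  obtain ⟨i, hi⟩ := X.σ_orbit (X.el_mem_E inV_v₄.1)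
    fun h => inV_v₄.2 (X.el_inj (h.trans (map_one _).symm))
  have hn : X.σ ^ i ∈ Y := pow_mem hY i
  have hinv : ∀ y ∈ Y, ∀ c ∈ ⁅Y, Y⁆, y * c * y⁻¹ ∈ ⁅Y, Y⁆ := by
    intro y hy c hc
    have hm : ⁅Y, Y⁆.map (MulAut.conj y).toMonoidHom ≤ ⁅Y, Y⁆ := by
      rw [map_commutator]
      refine commutator_mono ?_ ?_ <;>
      · rintro _ ⟨z, hz, rfl⟩
        exact mul_mem (mul_mem hy hz) (inv_mem hy)
    exact hm ⟨c, hc, rfl⟩
  rw [← hi] at hv
  have := hinv _ (inv_mem hn) _ hv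
  rwa [show (X.σ ^ i)⁻¹ * (X.σ ^ i * X.t * (X.σ ^ i)⁻¹) * (X.σ ^ i)⁻¹⁻¹ = X.t by group] at this

theorem perfect_K₀ : commutator X.K₀ = ⊤ := by
  have hle : X.K₀ ≤ ⁅X.K₀, X.K₀⁆ := by
    refine (closure_le _).2 fun x hx => ?_
    obtain ⟨k, hk, rfl⟩ := X.exists_K₀_conj hx
    have ht := X.t_mem_commutator X.W_le_K₀ X.σ_mem_K₀
    have hm : ⁅X.K₀, X.K₀⁆.map (MulAut.conj k).toMonoidHom ≤ ⁅X.K₀, X.K₀⁆ := by
      rw [map_commutator]
      refine commutator_mono ?_ ?_ <;>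
      · rintro _ ⟨z, hz, rfl⟩
        exact mul_mem (mul_mem hk hz) (inv_mem hk)
    exact hm ⟨_, ht, rfl⟩
  refine map_injective X.K₀.subtype_injective ?_
  rw [commutator_def, map_commutator, ← MonoidHom.range_eq_map, range_subtype]
  exact le_antisymm (commutator_le.2 fun a ha b hb =>
    mul_mem (mul_mem (mul_mem ha hb) (inv_mem ha)) (inv_mem hb)) hle

/-- `t` inside `K₀`. -/
def t' : X.K₀ := ⟨X.t, X.W_le_K₀ (mem_wcl_self _)⟩

theorem center_K₀ {z : X.K₀} : z ∈ center X.K₀ ↔ (z : G) ∈ X.R := by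
  refine ⟨fun hz => ?_, fun hz => mem_center_iff.2 fun k => Subtype.ext (X.R_comm_K₀ hz k.2).symm⟩
  have hc : ∀ k ∈ X.K₀, k * (z : G) = z * k := fun k hk =>
    congrArg Subtype.val (mem_center_iff.1 hz ⟨k, hk⟩)
  obtain ⟨w, hw, r, hr, hzr⟩ := X.split_C (c := (z : G)) (hc _ X.t'.2).symm
  obtain ⟨c, rfl⟩ := X.exists_emb hw
  rcases center_C₀ c (fun g => X.emb_inj (by
    have h1 := hc _ (X.W_le_K₀ (X.emb_mem_W g))
    have h2 := X.R_comm_W hr (X.emb_mem_W g)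
    rw [map_mul, map_mul]
    refine mul_right_cancel (b := r) ?_
    calc X.emb g * X.emb c * r = X.emb g * z := by rw [hzr, mul_assoc]
      _ = z * X.emb g := h1
      _ = X.emb c * X.emb g * r := by rw [hzr, mul_assoc, h2, ← mul_assoc])) with rfl | rfl
  · rw [hzr, map_one, one_mul]; exact hr
  · exfalso
    rw [emb_t₀] at hzr
    have h1 := hc _ X.σ_mem_K₀
    rw [hzr, ← mul_assoc, mul_assoc X.t r, (X.mem_R.1 hr).2, ← mul_assoc] at h1
    exact X.ne_one_of_mem_D X.t_mem_D (X.σ_free X.t_mem_E (mul_right_cancel h1))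

/-- The central quotient. -/
abbrev Q : Type _ := X.K₀ ⧸ center X.K₀

/-- The image of the model in the central quotient. -/
noncomputable def q : C₀ →* X.Q :=
  (QuotientGroup.mk' _).comp (X.emb.codRestrict X.K₀ fun c => X.W_le_K₀ (X.emb_mem_W c))

theorem q_eq_one {c : C₀} (h : X.q c = 1) : c = 1 :=
  X.emb_inj ((X.R_inf_W (X.center_K₀.1 ((QuotientGroup.eq_one_iff _).1 h)) (X.emb_mem_W c)).trans
    (map_one _).symm)

theorem q_inj : Function.Injective X.q := by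
  intro a b h
  refine inv_mul_eq_one.1 (X.q_eq_one ?_)
  rw [map_mul, map_inv, h, inv_mul_cancel]

theorem q_t₀ : X.q t₀ = QuotientGroup.mk X.t' :=
  congrArg QuotientGroup.mk (Subtype.ext X.emb_t₀)

theorem q_range : X.q.range = centralizer ({(QuotientGroup.mk X.t' : X.Q)} : Set X.Q) := by
  refine le_antisymm ?_ fun y hy => ?_
  · rintro _ ⟨c, rfl⟩
    refine mem_centralizer_singleton_iff.2 ?_
    rw [← q_t₀, ← map_mul, ← map_mul, t₀_comm]
  · obtain ⟨x, rfl⟩ := QuotientGroup.mk_surjective y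
    have h := mem_centralizer_singleton_iff.1 hy
    rw [← QuotientGroup.mk_mul, ← QuotientGroup.mk_mul] at h
    have hz : x * X.t' * x⁻¹ * X.t'⁻¹ ∈ center X.K₀ := by
      rw [← QuotientGroup.eq_one_iff, show x * X.t' * x⁻¹ * X.t'⁻¹ = x * X.t' * (X.t' * x)⁻¹ by group,
        QuotientGroup.mk_mul, QuotientGroup.mk_inv, h, mul_inv_cancel]
    set z : G := (x : G) * X.t * (x : G)⁻¹ * X.t⁻¹ with hzdef
    have hzR : z ∈ X.R := X.center_K₀.1 hz
    have hd : (x : G) * X.t * (x : G)⁻¹ = z * X.t := by rw [hzdef]; group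
    have hcomm : (x : G) * X.t * (x : G)⁻¹ * X.t = X.t * ((x : G) * X.t * (x : G)⁻¹) := by
      rw [hd, X.R_comm_t hzR, mul_assoc X.t z X.t, X.R_comm_t hzR]
    have hw := X.mem_W_of_comm (X.conj_mem_D X.t_mem_D x) hcomm
    have hz1 : z = 1 := X.R_inf_W hzR (by
      rw [hzdef]; exact mul_mem hw (inv_mem (mem_wcl_self _)))
    rw [hz1, one_mul] at hd
    obtain ⟨w, hw, r, hr, hwr⟩ := X.split_C (mul_inv_eq_iff_eq_mul.1 hd)
    obtain ⟨c, rfl⟩ := X.exists_emb hw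
    refine ⟨c, QuotientGroup.eq.2 (X.center_K₀.2 ?_)⟩
    show (X.emb c)⁻¹ * (x : G) ∈ X.R
    rw [hwr, inv_mul_cancel_left]
    exact hr

theorem exists_sylow_K₀ : ∃ P : Sylow 2 X.K₀, ∀ x ∈ (P : Subgroup X.K₀), x * X.t' = X.t' * x := by
  haveI : Fact (Nat.Prime 2) := ⟨Nat.prime_two⟩
  set U : Subgroup X.K₀ := (X.S : Subgroup G).subgroupOf X.K₀ with hU
  obtain ⟨P, hP⟩ := (X.S.2.comap_subtype (K := X.K₀)).exists_le_sylow
  have hmap : IsPGroup 2 ((P : Subgroup X.K₀).map X.K₀.subtype) := P.2.map _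
  obtain ⟨x, hx, hxS⟩ := H39.exists_conj_mem_le_sylow hmap
    ((map_subtype_le _).trans X.K₀_le_H) X.S (fun s hs => X.C_le_H (X.htc s hs))
  have hle : Nat.card (P : Subgroup X.K₀) ≤ Nat.card U := by
    refine Nat.card_le_card_of_injective
      (fun p => (⟨⟨x * ((p : X.K₀) : G) * x⁻¹, X.H_conj_K₀ hx (p : X.K₀).2⟩,
        hxS _ ⟨p, p.2, rfl⟩⟩ : U)) fun a b h => ?_
    exact Subtype.ext (Subtype.ext
      (mul_left_cancel (mul_right_cancel (congrArg (fun u : U => ((u : X.K₀) : G)) h))))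
  refine ⟨P, fun y hy => Subtype.ext ?_⟩
  exact X.htc _ ((eq_of_le_of_card_ge hP hle).ge hy :)

/-- The Setup in the central quotient. -/
noncomputable def setup : Setup X.Q where
  t := QuotientGroup.mk X.t'
  ht := by
    rw [← q_t₀, orderOf_injective _ X.q_inj]
    exact orderOf_eq_prime (by rw [sq]; exact t₀_sq.1) t₀_sq.2.1
  e := ((MonoidHom.ofInjective X.q_inj).trans (MulEquiv.subgroupCongr X.q_range)).symm
  sylow_card := fun Q => by
    haveI : Fact (Nat.Prime 2) := ⟨Nat.prime_two⟩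
    obtain ⟨P, hP⟩ := X.exists_sylow_K₀
    refine Uniq.sylow_card_of_central
      ((MonoidHom.ofInjective X.q_inj).trans (MulEquiv.subgroupCongr X.q_range)).symm
      (P := P.mapSurjective (QuotientGroup.mk'_surjective (center X.K₀))) ?_ Q
    rintro _ ⟨x, hx, rfl⟩
    exact (QuotientGroup.mk_mul _ _ _).symm.trans
      ((congrArg QuotientGroup.mk (hP x hx)).trans (QuotientGroup.mk_mul _ _ _))

theorem q_conj_t {c : C₀} (hc : c ∈ S₀) (h1 : c ≠ 1) :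
    ∃ k : X.Q, k * QuotientGroup.mk X.t' * k⁻¹ = X.q c := by
  obtain ⟨i, hi⟩ := X.σ_orbit (X.emb_mem_E.2 hc) fun h => h1 (X.emb_inj (h.trans (map_one _).symm))
  exact ⟨QuotientGroup.mk ⟨X.σ ^ i, pow_mem X.σ_mem_K₀ i⟩, congrArg QuotientGroup.mk (Subtype.ext hi)⟩

theorem card_four : Fintype.card {c : C₀ // InV c.2 ∧ c.1 = 1} = 4 := by decide +kernel

theorem eq_bot_of_odd_normal (N : Subgroup X.Q) [N.Normal] (hodd : Odd (Nat.card N)) : N = ⊥ := by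
  have hC : ∀ y ∈ N, y * QuotientGroup.mk X.t' = QuotientGroup.mk X.t' * y → y = 1 := by
    intro y hy hyt
    obtain ⟨c, rfl⟩ := X.q_range.ge (mem_centralizer_singleton_iff.2 hyt)
    have hodd' : Odd (Nat.card (N.comap X.q)) := hodd.of_dvd_nat
      ((card_map_of_injective (K := N.comap X.q) X.q_inj) ▸ card_dvd_of_le (map_comap_le _ _))
    rw [mem_bot.1 ((eq_bot_of_odd _ hodd').le hy : c ∈ (⊥ : Subgroup C₀)), map_one]
  let V : Subgroup C₀ := S₀ ⊓ (MonoidHom.fst _ A).ker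
  have hVc : Nat.card V = 4 := by
    rw [← card_four, ← Nat.card_eq_fintype_card]
    exact Nat.card_congr (Equiv.subtypeEquivRight fun c : C₀ => Iff.rfl)
  let V' : Subgroup X.Q := V.map X.q
  have hsq : ∀ x ∈ V', x * x = 1 := by
    rintro _ ⟨c, hc, rfl⟩
    rw [← map_mul, S₀_sq c hc.1, map_one]
  haveI : IsMulCommutative V' :=
    ⟨⟨fun a b => ByOrder.comm_of_sq (fun x : V' => Subtype.ext (hsq x x.2)) a b⟩⟩
  have hV'c : Nat.card V' = 4 := (card_map_of_injective X.q_inj).trans hVc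
  have hnc : ¬ IsCyclic V' := by
    intro hcy
    obtain ⟨g, hg⟩ := IsCyclic.exists_ofOrder_eq_natCard (α := V')
    have h2 : g ^ 2 = 1 := Subtype.ext (by rw [pow_two]; exact hsq g g.2)
    have := Nat.le_of_dvd two_pos (orderOf_dvd_of_pow_eq_one h2)
    omega
  rw [eq_bot_iff]
  refine le_of_centralizer_noncyclic_le hnc (le_normalizer_of_normal (K := V')) ?_ fun a ha ha1 => ?_
  · rw [hV'c, show 4 = 2 ^ 2 from rfl]
    exact (Nat.coprime_two_left.2 hodd).pow_left 2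
  · rintro y ⟨hyN, hya⟩
    obtain ⟨c, hc, rfl⟩ := ha
    obtain ⟨k, hk⟩ := X.q_conj_t hc.1 fun h => ha1 (h ▸ map_one _)
    have hy := mem_centralizer_singleton_iff.1 hya
    have h := hC (k⁻¹ * y * k⁻¹⁻¹) (‹N.Normal›.conj_mem y hyN k⁻¹) (by
      calc k⁻¹ * y * k⁻¹⁻¹ * QuotientGroup.mk X.t'
          = k⁻¹ * (y * (k * QuotientGroup.mk X.t' * k⁻¹)) * k := by group
        _ = k⁻¹ * (k * QuotientGroup.mk X.t' * k⁻¹ * y) * k := by rw [hk, hy]
        _ = QuotientGroup.mk X.t' * (k⁻¹ * y * k⁻¹⁻¹) := by group)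
    rw [show y = k * (k⁻¹ * y * k⁻¹⁻¹) * k⁻¹ by group, h, mul_one, mul_inv_cancel]
    exact one_mem _

theorem simple_Q : IsSimpleGroup X.Q := by
  haveI : Fact (Nat.Prime 2) := ⟨Nat.prime_two⟩
  haveI : Nontrivial X.Q := ⟨⟨X.q t₀, 1, fun h => t₀_sq.2.1 (X.q_eq_one h)⟩⟩
  refine ⟨fun N hN => ?_⟩
  by_cases h : ∃ c ∈ S₀, c ≠ 1 ∧ X.q c ∈ N
  · right
    obtain ⟨c, hc, h1, hcN⟩ := h
    obtain ⟨k, hk⟩ := X.q_conj_t hc h1
    have htN : (QuotientGroup.mk X.t' : X.Q) ∈ N := by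
      rw [show (QuotientGroup.mk X.t' : X.Q) = k⁻¹ * (k * QuotientGroup.mk X.t' * k⁻¹) * k⁻¹⁻¹ by group, hk]
      exact hN.conj_mem _ hcN _
    rw [eq_top_iff]
    have hle : X.K₀ ≤ (N.comap (QuotientGroup.mk' (center X.K₀))).map X.K₀.subtype := by
      refine (closure_le _).2 fun x hx => ?_
      obtain ⟨l, hl, rfl⟩ := X.exists_K₀_conj hx
      exact ⟨⟨l, hl⟩ * X.t' * (⟨l, hl⟩ : X.K₀)⁻¹, (hN.comap _).conj_mem _ htN _, rfl⟩
    intro y _
    obtain ⟨x, rfl⟩ := QuotientGroup.mk_surjective y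
    obtain ⟨x', hx', he⟩ := hle x.2
    exact (Subtype.ext he : x' = x) ▸ hx'
  · left
    refine X.eq_bot_of_odd_normal N (Nat.not_even_iff_odd.1 fun hev => h ?_)
    obtain ⟨g, hg⟩ := exists_prime_orderOf_dvd_card' (G := N) 2 (even_iff_two_dvd.1 hev)
    have hg2 : orderOf (g : X.Q) = 2 := (Subgroup.orderOf_coe g).trans hg
    -- the image of `S₀` is a Sylow subgroup
    have hp : IsPGroup 2 (S₀.map X.q) := (IsPGroup.of_card (n := 3)
      (show Nat.card S₀ = 2 ^ 3 by rw [Nat.card_eq_fintype_card, card_S₀]; norm_num)).map _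
    obtain ⟨P, hP⟩ := hp.exists_le_sylow
    have hPe : S₀.map X.q = (P : Subgroup X.Q) := eq_of_le_of_card_ge hP (by
      rw [X.setup.sylow_card P, card_map_of_injective X.q_inj, Nat.card_eq_fintype_card, card_S₀])
    obtain ⟨x, hx⟩ := H39.exists_conj_le_sylow
      (IsPGroup.of_card (n := 1) (by rw [Nat.card_zpowers, hg2, pow_one])) P
    obtain ⟨c, hc, hce⟩ := hPe.ge (hx (g : X.Q) (mem_zpowers _))
    refine ⟨c, hc, fun h1 => ?_, hce ▸ hN.conj_mem _ g.2 x⟩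
    rw [h1, map_one, eq_comm, conj_eq_one_iff] at hce
    rw [hce, orderOf_one] at hg2
    omega

theorem isoJ1_Q : Cfsg.Spor.IsoJ1 X.Q := by
  haveI := X.simple_Q
  exact Uniq.isoJ1 X.setup

theorem center_K₀_eq_bot : center X.K₀ = ⊥ := by
  obtain ⟨e⟩ := X.isoJ1_Q
  let s : Shrink.{0} X.K₀ ≃* X.K₀ := Shrink.mulEquiv
  haveI : Finite (Shrink.{0} X.K₀) := Finite.of_equiv _ s.symm.toEquiv
  let f : Shrink.{0} X.K₀ →* Cfsg.Spor.J1 :=
    e.toMonoidHom.comp ((QuotientGroup.mk' (center X.K₀)).comp s.toMonoidHom)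
  have hker : ∀ y, y ∈ f.ker ↔ s y ∈ center X.K₀ := fun y => by
    rw [MonoidHom.mem_ker]
    show e (QuotientGroup.mk (s y)) = 1 ↔ _
    rw [MulEquiv.map_eq_one_iff, QuotientGroup.eq_one_iff]
  have hstem : Cfsg.IsStemExtension f := by
    refine ⟨e.surjective.comp ((QuotientGroup.mk'_surjective _).comp s.surjective), fun y hy => ?_, ?_⟩
    · refine mem_center_iff.2 fun g => s.injective ?_
      rw [map_mul, map_mul]
      exact mem_center_iff.1 ((hker y).1 hy) (s g)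
    · have htop : commutator (Shrink.{0} X.K₀) = ⊤ := by
        refine map_injective (f := s.toMonoidHom) s.injective ?_
        rw [map_top_of_surjective _ s.surjective, commutator_def, map_commutator,
          map_top_of_surjective _ s.surjective, ← commutator_def, perfect_K₀]
      rw [htop]
      exact le_top
  obtain ⟨π, hπ⟩ := S2039.result.2 _ f hstem
  rw [eq_bot_iff]
  intro z hz
  obtain ⟨a, ha⟩ := hπ ⟨s.symm z, (hker _).2 (by rwa [s.apply_symm_apply])⟩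
  have ha1 : a = 1 := Subsingleton.elim _ _
  rw [ha1, map_one] at ha
  have h1 : s.symm z = 1 := (congrArg Subtype.val ha).symm
  rw [← s.apply_symm_apply z, h1, map_one]
  exact one_mem _

/-- The component generates a copy of `J₁`. -/
theorem isoJ1_K₀ : Cfsg.Spor.IsoJ1 X.K₀ := by
  obtain ⟨e⟩ := X.isoJ1_Q
  exact ⟨(QuotientGroup.quotientBot.symm.trans
    (QuotientGroup.quotientMulEquivOfEq X.center_K₀_eq_bot.symm)).trans e⟩

theorem K₀_inf_R {x : G} (hx : x ∈ X.K₀) (hr : x ∈ X.R) : x = 1 := by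
  have := (X.center_K₀ (z := ⟨x, hx⟩)).2 hr
  rw [X.center_K₀_eq_bot, mem_bot] at this
  exact congrArg Subtype.val this

end Cfsg.Agent.Coprime.J1.Closure.Hyp
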