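import Cfsg.Agent.Compute.J1.Classes
import Mathlib.GroupTheory.SpecificGroups.ZGroup

/-!
# `J₁` has no subgroup of odd order divisible by `1463`
-/

set_option autoImplicit false
set_option linter.style.haveILetI false

namespace Cfsg.Agent.Coprime.J1.Closure

open Subgroup
open Cfsg.Agent.Compute.J1
open scoped commutatorElement

theorem centralizer_nineteen {g : pairGrp} (hg : orderOf g = 19) :
    Nat.card (centralizer ({g} : Set pairGrp)) = 19 := by
  obtain ⟨i, hi⟩ := exists_isConj_rep g
  have key : ∀ j : Fin 15, (row j).2.1 = 19 → (row j).2.2.2 = 19 := by decide +kernel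
  have hc := card_cent_rep i
  rw [key i ((orderOf_eq_rep g i hi).symm.trans hg)] at hc
  obtain ⟨c, rfl⟩ := isConj_iff.1 hi
  rw [← hc]
  refine (Nat.card_congr (((MulAut.conj c).subgroupMap (centralizer ({rep i} : Set pairGrp))).trans
    (MulEquiv.subgroupCongr ?_)).toEquiv).symm
  refine le_antisymm ?_ fun y hy => ⟨c⁻¹ * y * c, ?_, ?_⟩
  · rintro _ ⟨x, hx, rfl⟩
    refine mem_centralizer_singleton_iff.2 ?_
    show c * x * c⁻¹ * (c * rep i * c⁻¹) = c * rep i * c⁻¹ * (c * x * c⁻¹)
    have h := mem_centralizer_singleton_iff.1 hx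
    calc c * x * c⁻¹ * (c * rep i * c⁻¹) = c * (x * rep i) * c⁻¹ := by group
      _ = c * (rep i * x) * c⁻¹ := by rw [h]
      _ = _ := by group
  · refine mem_centralizer_singleton_iff.2 ?_
    have h := mem_centralizer_singleton_iff.1 hy
    calc c⁻¹ * y * c * rep i = c⁻¹ * (y * (c * rep i * c⁻¹)) * c := by group
      _ = c⁻¹ * (c * rep i * c⁻¹ * y) * c := by rw [h]
      _ = rep i * (c⁻¹ * y * c) := by group
  · show c * (c⁻¹ * y * c) * c⁻¹ = y
    group

theorem no_odd_subgroup_pairGrp (B : Subgroup pairGrp) (hodd : Odd (Nat.card B))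
    (hdvd : 1463 ∣ Nat.card B) : False := by
  have hB : Nat.card B ∣ 21945 := by
    have h : Nat.card B ∣ 8 * 21945 := by
      rw [show 8 * 21945 = 175560 by norm_num, ← card_pairGrp]
      exact card_subgroup_dvd_card B
    exact (((Nat.coprime_two_right.2 hodd).pow_right 3).dvd_of_dvd_mul_left h :)
  haveI : Finite B := Nat.finite_of_card_ne_zero (fun h => by rw [h] at hodd; exact absurd hodd (by decide))
  haveI : IsZGroup B := IsZGroup.of_squarefree
    (Squarefree.squarefree_of_dvd hB (by decide +kernel))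
  have h19 : Fact (Nat.Prime 19) := ⟨by norm_num⟩
  -- an element of order 19 commutes only with its powers
  have hsmall : ∀ (C : Subgroup B) (x : B), orderOf x = 19 → (∀ c ∈ C, c * x = x * c) →
      Nat.card C ∣ 19 := by
    intro C x hx hC
    rw [← centralizer_nineteen (g := (x : pairGrp)) ((Subgroup.orderOf_coe x).trans hx),
      ← card_map_of_injective (K := C) B.subtype_injective]
    refine card_dvd_of_le ?_
    rintro _ ⟨c, hc, rfl⟩
    exact mem_centralizer_singleton_iff.2 (congrArg Subtype.val (hC c hc))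
  obtain ⟨x₁₉, hx₁₉⟩ := exists_prime_orderOf_dvd_card' (G := B) 19
    ((by norm_num : 19 ∣ 1463).trans hdvd)
  have hbig : ¬ Nat.card B ∣ 19 * 18 := fun h => by
    have := hdvd.trans h
    norm_num at this
  rcases eq_or_ne (commutator B) ⊥ with hab | hab
  · refine hbig ((card_top (G := B) ▸ hsmall ⊤ x₁₉ hx₁₉ fun c _ => ?_).trans (dvd_mul_right 19 18))
    have : ⁅c, x₁₉⁆ ∈ commutator B := commutator_mem_commutator (mem_top _) (mem_top _)
    rw [hab, mem_bot] at this
    exact commutatorElement_eq_one_iff_mul_comm.1 this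
  haveI := IsZGroup.isCyclic_commutator (G := B)
  have hne : Nat.card (commutator B) ≠ 1 := fun h => hab (card_eq_one.1 h)
  obtain ⟨q, hq, hqd⟩ := Nat.exists_prime_and_dvd hne
  haveI := Fact.mk hq
  obtain ⟨z, hz⟩ := exists_prime_orderOf_dvd_card' (G := commutator B) q hqd
  have hzo : orderOf (z : B) = q := (Subgroup.orderOf_coe z).trans hz
  -- the subgroup of order `q` is normal
  have hnorm : (zpowers (z : B)).Normal := by
    classical
    refine ⟨fun y hy g => ?_⟩
    have hy' : y ∈ commutator B := zpowers_le.2 z.2 hy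
    let w : commutator B := ⟨g * y * g⁻¹, (inferInstance : (commutator B).Normal).conj_mem y hy' g⟩
    have hw : w ^ q = 1 := by
      obtain ⟨i, rfl⟩ := hy
      refine Subtype.ext ?_
      show (g * (z : B) ^ i * g⁻¹) ^ q = 1
      rw [conj_pow, ← zpow_natCast, ← zpow_mul, mul_comm, zpow_mul, zpow_natCast, ← hzo,
        pow_orderOf_eq_one, one_zpow, mul_one, mul_inv_cancel]
    have := Fintype.ofFinite (commutator B)
    let F : Finset (commutator B) := Finset.univ.filter fun v => v ^ q = 1
    have hsub : (zpowers z : Set (commutator B)).toFinset ⊆ F := fun v hv => by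
      obtain ⟨i, rfl⟩ := Set.mem_toFinset.1 hv
      refine Finset.mem_filter.2 ⟨Finset.mem_univ _, ?_⟩
      rw [← zpow_natCast, ← zpow_mul, mul_comm, zpow_mul, zpow_natCast, ← hz, pow_orderOf_eq_one,
        one_zpow]
    have hF : F ⊆ (zpowers z : Set (commutator B)).toFinset :=
      (Finset.eq_of_subset_of_card_le hsub ((IsCyclic.card_pow_eq_one_le hq.pos).trans (by
        rw [← Nat.card_eq_card_toFinset]
        exact (Nat.card_zpowers z ▸ hz.ge)))).ge
    obtain ⟨i, hi⟩ := Set.mem_toFinset.1 (hF (Finset.mem_filter.2 ⟨Finset.mem_univ w, hw⟩))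
    exact ⟨i, congrArg Subtype.val hi⟩
  set Z := zpowers (z : B) with hZ
  let f : B →* MulAut Z := MulAut.conjNormal
  have hker : ∀ c ∈ f.ker, c * (z : B) = z * c := fun c hc =>
    mul_inv_eq_iff_eq_mul.1
      (congrArg (fun e : MulAut Z => ((e ⟨z, mem_zpowers _⟩ : Z) : B)) (MonoidHom.mem_ker.1 hc))
  have hidx : f.ker.index ∣ q - 1 := by
    rw [index_ker]
    refine (card_subgroup_dvd_card f.range).trans ?_
    rw [IsCyclic.card_mulAut, Nat.card_zpowers, hzo, Nat.totient_prime hq]
  have hmul := card_mul_index f.ker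
  have hq' : q ∣ 21945 := (hqd.trans (card_subgroup_dvd_card _)).trans hB
  have hqle : q ≤ 19 := by
    have h' : q ∣ 3 * (5 * (7 * (11 * 19))) := by norm_num; exact hq'
    rcases hq.dvd_mul.1 h' with h | h
    · exact (Nat.le_of_dvd (by norm_num) h).trans (by norm_num)
    rcases hq.dvd_mul.1 h with h | h
    · exact (Nat.le_of_dvd (by norm_num) h).trans (by norm_num)
    rcases hq.dvd_mul.1 h with h | h
    · exact (Nat.le_of_dvd (by norm_num) h).trans (by norm_num)
    rcases hq.dvd_mul.1 h with h | h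
    · exact (Nat.le_of_dvd (by norm_num) h).trans (by norm_num)
    exact Nat.le_of_dvd (by norm_num) h
  have hk19 : 19 ∣ Nat.card f.ker := by
    have h : 19 ∣ Nat.card f.ker * f.ker.index := hmul ▸ (by norm_num : 19 ∣ 1463).trans hdvd
    refine (Nat.Prime.dvd_mul (by norm_num)).1 h |>.resolve_right fun h' => ?_
    have := Nat.le_of_dvd (by have := hq.two_le; omega) (h'.trans hidx)
    omega
  obtain ⟨x, hx⟩ := exists_prime_orderOf_dvd_card' (G := f.ker) 19 hk19
  have hd := hsmall Z x ((Subgroup.orderOf_coe x).trans hx) fun c hc => by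
    obtain ⟨i, rfl⟩ := hc
    exact (Commute.zpow_left (show Commute (z : B) x from (hker x x.2).symm) i).eq
  rw [Nat.card_zpowers, hzo] at hd
  obtain rfl : q = 19 := (Nat.prime_dvd_prime_iff_eq hq (by norm_num)).1 hd
  have hd' := hsmall f.ker (z : B) hzo hker
  exact hbig (hmul ▸ Nat.mul_dvd_mul hd' (hidx.trans (by norm_num)))

theorem no_odd_subgroup {J : Type*} [Group J] (e : J ≃* ↥Cfsg.Spor.J1) (B : Subgroup J)
    (hodd : Odd (Nat.card B)) (hdvd : 1463 ∣ Nat.card B) : False := by
  obtain ⟨e'⟩ := Compute.J1.nonempty_equiv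
  let φ : J →* pairGrp := (e.trans e'.symm).toMonoidHom
  have hc : Nat.card (B.map φ) = Nat.card B := card_map_of_injective (e.trans e'.symm).injective
  exact no_odd_subgroup_pairGrp (B.map φ) (hc.symm ▸ hodd) (hc.symm ▸ hdvd)

end Cfsg.Agent.Coprime.J1.Closure
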