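import Cfsg.Agent.Coprime.J1.Closure.OddPart
import Cfsg.Agent.Coprime.J1.Closure.OddSubgroup
import Cfsg.Agent.H39.StronglyEmbedded

/-!
# The commuting graph on the class is connected
-/

set_option autoImplicit false
set_option linter.unusedSectionVars false
set_option linter.style.haveILetI false

namespace Cfsg.Agent.Coprime.J1.Closure.Hyp

open Subgroup
open scoped commutatorElement

universe u

variable {G : Type u} [Group G] [Finite G] (X : Hyp G)

theorem card_K₀ : Nat.card X.K₀ = 175560 := by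
  obtain ⟨e⟩ := X.isoJ1_K₀
  rw [Nat.card_congr e.toEquiv, Compute.J1.card_J1]

theorem card_D₀ : Nat.card X.D₀ = 1463 := by
  let T : Subgroup X.K₀ := centralizer ({X.t'} : Set X.K₀)
  have hT : Nat.card T = 120 := by
    let q : C₀ →* X.K₀ := X.emb.codRestrict X.K₀ fun c => X.W_le_K₀ (X.emb_mem_W c)
    have hq : Function.Injective q := fun a b h => X.emb_inj (congrArg Subtype.val h)
    have hr : q.range = T := by
      refine le_antisymm ?_ fun y hy => ?_
      · rintro _ ⟨c, rfl⟩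
        exact mem_centralizer_singleton_iff.2 (Subtype.ext (X.comm_t (X.emb_mem_W c)))
      · have h : (y : G) * X.t = X.t * y :=
          congrArg Subtype.val (mem_centralizer_singleton_iff.1 hy)
        obtain ⟨w, hw, r, hr, hyw⟩ := X.split_C h
        have hrK : r ∈ X.K₀ := by
          have := mul_mem (inv_mem (X.W_le_K₀ hw)) y.2
          rwa [hyw, inv_mul_cancel_left] at this
        rw [X.K₀_inf_R hrK hr, mul_one] at hyw
        obtain ⟨c, hc⟩ := X.exists_emb hw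
        exact ⟨c, Subtype.ext (hc.trans hyw.symm)⟩
    rw [← hr, ← Nat.card_congr (MonoidHom.ofInjective hq).toEquiv, card_C₀]
  have e : X.D₀ ≃ X.K₀ ⧸ T := by
    refine (Equiv.ofBijective (Quotient.lift (fun k : X.K₀ => (⟨(k : G) * X.t * (k : G)⁻¹,
      X.D₀_conj (X.K₀_le_H k.2) X.t_mem_D₀⟩ : X.D₀)) ?_) ⟨?_, ?_⟩).symm
    · intro a b hab
      have h : (a : G)⁻¹ * b * X.t = X.t * ((a : G)⁻¹ * b) := congrArg Subtype.val
        (mem_centralizer_singleton_iff.1 (QuotientGroup.leftRel_apply (s := T).1 hab))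
      apply Subtype.ext
      calc (a : G) * X.t * (a : G)⁻¹ = a * (X.t * ((a : G)⁻¹ * b)) * (b : G)⁻¹ := by group
        _ = a * ((a : G)⁻¹ * b * X.t) * (b : G)⁻¹ := by rw [h]
        _ = b * X.t * (b : G)⁻¹ := by group
    · rintro ⟨a⟩ ⟨b⟩ hab
      refine Quotient.sound (QuotientGroup.leftRel_apply.2 ?_)
      have h : (a : G) * X.t * (a : G)⁻¹ = b * X.t * (b : G)⁻¹ := congrArg Subtype.val hab
      refine mem_centralizer_singleton_iff.2 (Subtype.ext ?_)
      show (a : G)⁻¹ * b * X.t = X.t * ((a : G)⁻¹ * b)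
      calc (a : G)⁻¹ * b * X.t = (a : G)⁻¹ * ((b : G) * X.t * (b : G)⁻¹) * b := by group
        _ = (a : G)⁻¹ * ((a : G) * X.t * (a : G)⁻¹) * b := by rw [h]
        _ = X.t * ((a : G)⁻¹ * b) := by group
    · rintro ⟨x, hx⟩
      obtain ⟨k, hk, rfl⟩ := X.exists_K₀_conj hx
      exact ⟨QuotientGroup.mk ⟨k, hk⟩, rfl⟩
  have h := card_mul_index T
  rw [hT, X.card_K₀, index_eq_card, ← Nat.card_congr e] at h
  omega

theorem orderOf_of_mem_D₀ {x : G} (hx : x ∈ X.D₀) : orderOf x = 2 :=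
  orderOf_eq_prime (by rw [sq]; exact X.sq_of_mem_D (X.D₀_subset hx))
    (X.ne_one_of_mem_D (X.D₀_subset hx))

/-- An involution of `H ∩ M` cannot be moved into `H` from outside. -/
theorem mem_H_of_fused {x g : G} (hx : orderOf x = 2) (hH : x ∈ X.H) (hM : x ∈ X.M)
    (hg : g * x * g⁻¹ ∈ X.H) : g ∈ X.H := by
  obtain ⟨k, hk, hkt⟩ := X.exists_K₀_conj (X.invol_H_M hx hH hM)
  have hD := X.invol_H_M ((orderOf_injective (MulAut.conj g).toMonoidHom (MulEquiv.injective _) x).trans hx)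
    hg (X.M_normal.conj_mem x hM g)
  have hgk : g * k ∈ X.H := X.mem_H_of_conj_mem (by
    rw [show g * k * X.t * (g * k)⁻¹ = g * (k * X.t * k⁻¹) * g⁻¹ by group, hkt]
    exact hD)
  have := mul_mem hgk (inv_mem (X.K₀_le_H hk))
  rwa [mul_inv_cancel_right] at this

theorem card_swap {Y : Subgroup G} (hKY : X.K₀ ≤ Y) (hYM : Y ≤ X.M) {u : G} (huY : u ∈ Y)
    (hu : orderOf u = 2) (huH : u ∉ X.H) :
    Nat.card {d : G // d ∈ Y ∧ d ∈ X.H ∧ u * d * u = d⁻¹} = 1463 := by
  have hu2 : u * u = 1 := by rw [← sq, ← hu, pow_orderOf_eq_one]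
  have hui : u⁻¹ = u := inv_eq_of_mul_eq_one_left hu2
  let HY : Subgroup Y := X.H.subgroupOf Y
  have htY : X.t ∈ Y := hKY (X.W_le_K₀ (mem_wcl_self _))
  have hse : Cfsg.IsStronglyEmbedded HY := by
    refine ⟨fun h => huH (h.ge (mem_top (⟨u, huY⟩ : Y)) :), ?_, fun g hg => ?_⟩
    · let t₁ : HY := ⟨⟨X.t, htY⟩, X.D₀_mem_H X.t_mem_D₀⟩
      have h : orderOf t₁ = 2 := by rw [← orderOf_coe, ← orderOf_coe]; exact X.ht
      exact even_iff_two_dvd.2 (h ▸ orderOf_dvd_natCard t₁)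
    · refine Nat.not_even_iff_odd.1 fun hev => hg ?_
      haveI : Fact (Nat.Prime 2) := ⟨Nat.prime_two⟩
      obtain ⟨x, hx⟩ := exists_prime_orderOf_dvd_card' (G := (HY ⊓ HY.map (MulAut.conj g).toMonoidHom :
        Subgroup Y)) 2 (even_iff_two_dvd.1 hev)
      obtain ⟨hxH, y, hyH, hye⟩ := x.2
      have hy2 : orderOf ((y : Y) : G) = 2 := by
        rw [orderOf_coe, ← orderOf_injective (MulAut.conj g).toMonoidHom (MulEquiv.injective _) y, hye,
          orderOf_coe, hx]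
      exact X.mem_H_of_fused (g := (g : G)) hy2 hyH (hYM y.2)
        (show ((MulAut.conj g y : Y) : G) ∈ X.H from (show (MulAut.conj g y : Y) = (x : Y) from hye) ▸ hxH)
  have hsw := H39.se_card_swap hse (QuotientGroup.mk (1 : Y)) (QuotientGroup.mk (⟨u, huY⟩ : Y))
  have hinv : Nat.card {s : Y // orderOf s = 2 ∧ s ∈ HY} = 1463 := by
    rw [← X.card_D₀]
    refine Nat.card_congr
      { toFun := fun s => ⟨(s.1 : G), X.invol_H_M ((orderOf_coe s.1).trans s.2.1) s.2.2 (hYM s.1.2)⟩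
        invFun := fun d => ⟨⟨d.1, hKY (subset_closure d.2)⟩,
          (orderOf_coe _).symm.trans (X.orderOf_of_mem_D₀ d.2), X.D₀_mem_H d.2⟩
        left_inv := fun s => rfl
        right_inv := fun d => rfl }
  rw [hinv] at hsw
  rw [← hsw]
  have hiff : ∀ i : Y, (i • (QuotientGroup.mk (1 : Y) : Y ⧸ HY) = QuotientGroup.mk (⟨u, huY⟩ : Y)) ↔
      (i : G)⁻¹ * u ∈ X.H := by
    intro i
    rw [MulAction.Quotient.smul_mk, QuotientGroup.eq, smul_eq_mul, mul_one]
    rfl
  refine (Nat.card_congr (Equiv.ofBijective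
    (fun i : {i : Y // orderOf i = 2 ∧ i • (QuotientGroup.mk (1 : Y) : Y ⧸ HY) =
        QuotientGroup.mk (⟨u, huY⟩ : Y)} =>
      (⟨u * (i.1 : G), mul_mem huY i.1.2, ?_, ?_⟩ : {d : G // d ∈ Y ∧ d ∈ X.H ∧ u * d * u = d⁻¹}))
    ⟨?_, ?_⟩)).symm
  · have h := inv_mem ((hiff i.1).1 i.2.2)
    rwa [mul_inv_rev, inv_inv, hui] at h
  · have hi : (i.1 : G) * i.1 = 1 := by
      have h := pow_orderOf_eq_one (i.1 : G)
      rwa [orderOf_coe, i.2.1, sq] at h
    rw [mul_inv_rev, inv_eq_of_mul_eq_one_left hi, hui, ← mul_assoc u u, hu2, one_mul]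
  · intro a b h
    exact Subtype.ext (Subtype.ext (mul_left_cancel (congrArg Subtype.val h)))
  · rintro ⟨d, hdY, hdH, hd⟩
    have h2 : u * d * (u * d) = 1 := by rw [← mul_assoc, hd, inv_mul_cancel]
    have h1 : u * d ≠ 1 := fun h => huH (by rw [eq_inv_of_mul_eq_one_left h]; exact inv_mem hdH)
    refine ⟨⟨⟨u * d, mul_mem huY hdY⟩, ?_, ?_⟩, Subtype.ext ?_⟩
    · rw [← orderOf_coe]
      exact orderOf_eq_prime (by rw [sq]; exact h2) h1
    · refine (hiff _).2 ?_
      show (u * d)⁻¹ * u ∈ X.H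
      rw [show (u * d)⁻¹ * u = d⁻¹ by group]
      exact inv_mem hdH
    · show u * (u * d) = d
      rw [← mul_assoc, hu2, one_mul]

set_option maxHeartbeats 1600000 in
/-- Every involution of a group between `K₀` and `M` lies in `H`. -/
theorem invol_mem_H : ∀ (n : ℕ) (Y : Subgroup G), X.K₀ ≤ Y → Y ≤ X.M → Nat.card Y < n →
    ∀ u ∈ Y, orderOf u = 2 → u ∈ X.H := by
  intro n
  induction n with
  | zero => intros; omega
  | succ n ih =>
  intro Y hKY hYM hn u huY hu
  by_contra huH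
  haveI : Fact (Nat.Prime 2) := ⟨Nat.prime_two⟩
  have hu2 : u * u = 1 := by rw [← sq, ← hu, pow_orderOf_eq_one]
  have hui : u⁻¹ = u := inv_eq_of_mul_eq_one_left hu2
  have hconj : ∀ a b : G, u * (a * b) * u = u * a * u * (u * b * u) := fun a b => by
    calc u * (a * b) * u = u * a * (u * u) * b * u := by rw [hu2]; group
      _ = _ := by group
  have hinvo : ∀ a : G, u * (u * a * u) * u = a := fun a => by
    calc u * (u * a * u) * u = u * u * a * (u * u) := by group
      _ = a := by rw [hu2, one_mul, mul_one]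
  have hcinv : ∀ a : G, u * a⁻¹ * u = (u * a * u)⁻¹ := fun a => by
    rw [mul_inv_rev, mul_inv_rev, hui, mul_assoc]
  -- the intersection of `H` with its conjugate
  let Dg : Subgroup G :=
    { carrier := {d | d ∈ Y ∧ d ∈ X.H ∧ u * d * u ∈ X.H}
      one_mem' := ⟨one_mem _, one_mem _, by rw [mul_one, hu2]; exact one_mem _⟩
      mul_mem' := fun {a b} ha hb =>
        ⟨mul_mem ha.1 hb.1, mul_mem ha.2.1 hb.2.1, (hconj a b).symm ▸ mul_mem ha.2.2 hb.2.2⟩
      inv_mem' := fun {a} ha => ⟨inv_mem ha.1, inv_mem ha.2.1, (hcinv a).symm ▸ inv_mem ha.2.2⟩ }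
  have hDgu : ∀ d ∈ Dg, u * d * u ∈ Dg := fun d hd =>
    ⟨mul_mem (mul_mem huY hd.1) huY, hd.2.2, (hinvo d).symm ▸ hd.2.1⟩
  have hodd : Odd (Nat.card Dg) := by
    refine Nat.not_even_iff_odd.1 fun hev => ?_
    obtain ⟨x, hx⟩ := exists_prime_orderOf_dvd_card' (G := Dg) 2 (even_iff_two_dvd.1 hev)
    obtain ⟨hxY, hxH, hxu⟩ := x.2
    exact huH (X.mem_H_of_fused (g := u) ((orderOf_coe x).trans hx) hxH (hYM hxY) (by rwa [hui]))
  -- the fixed points
  let F : Subgroup G := Dg ⊓ centralizer ({u} : Set G)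
  have hF : Nat.card Dg = 1463 * Nat.card F := by
    rw [← X.card_swap hKY hYM huY hu huH, mul_comm,
      ← Nat.card_congr (subgroupOfEquivOfLe (inf_le_left : F ≤ Dg)).toEquiv,
      ← card_mul_index (F.subgroupOf Dg), index_eq_card]
    congr 1
    refine Nat.card_congr (Equiv.ofBijective (Quotient.lift (fun g : Dg =>
      (⟨(g : G) * (u * g * u)⁻¹, mul_mem g.2.1 (inv_mem (hDgu g g.2).1),
        mul_mem g.2.2.1 (inv_mem g.2.2.2),
        by rw [hconj, hcinv, hinvo, mul_inv_rev, inv_inv]⟩ :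
        {d : G // d ∈ Y ∧ d ∈ X.H ∧ u * d * u = d⁻¹})) ?_) ⟨?_, ?_⟩)
    · intro a b hab
      have h : (a : G)⁻¹ * b ∈ F := QuotientGroup.leftRel_apply (s := F.subgroupOf Dg).1 hab
      have hc := mem_centralizer_singleton_iff.1 h.2
      apply Subtype.ext
      show (a : G) * (u * a * u)⁻¹ = b * (u * b * u)⁻¹
      have hfix : u * ((a : G)⁻¹ * b) * u = (a : G)⁻¹ * b := by
        rw [← hc, mul_assoc ((a : G)⁻¹ * b), hu2, mul_one]
      rw [show (b : G) = a * ((a : G)⁻¹ * b) by group, hconj, hfix]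
      group
    · rintro ⟨a⟩ ⟨b⟩ hab
      refine Quotient.sound (QuotientGroup.leftRel_apply.2 ?_)
      have h : (a : G) * (u * a * u)⁻¹ = b * (u * b * u)⁻¹ := congrArg Subtype.val hab
      refine ⟨Dg.mul_mem (Dg.inv_mem a.2) b.2, mem_centralizer_singleton_iff.2 ?_⟩
      show (a : G)⁻¹ * b * u = u * ((a : G)⁻¹ * b)
      have h' : (a : G)⁻¹ * b = u * ((a : G)⁻¹ * b) * u := by
        rw [hconj, hcinv]
        calc (a : G)⁻¹ * b = (a : G)⁻¹ * (b * (u * b * u)⁻¹) * (u * b * u) := by group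
          _ = (a : G)⁻¹ * (a * (u * a * u)⁻¹) * (u * b * u) := by rw [h]
          _ = (u * a * u)⁻¹ * (u * b * u) := by group
      conv_lhs => rw [h', mul_assoc _ u u, hu2, mul_one]
    · rintro ⟨d, hdY, hdH, hd⟩
      have hdD : d ∈ Dg := ⟨hdY, hdH, hd.symm ▸ inv_mem hdH⟩
      have ho : Odd (orderOf d) := hodd.of_dvd_nat (Subgroup.orderOf_dvd_natCard Dg hdD)
      obtain ⟨m, hm⟩ := ho
      refine ⟨QuotientGroup.mk ⟨d ^ (m + 1), pow_mem hdD _⟩, Subtype.ext ?_⟩
      show d ^ (m + 1) * (u * d ^ (m + 1) * u)⁻¹ = d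
      have hp : ∀ k : ℕ, u * d ^ k * u = (d ^ k)⁻¹ := by
        intro k
        induction k with
        | zero => rw [pow_zero, mul_one, hu2, inv_one]
        | succ k ihk => rw [pow_succ, hconj, ihk, hd, ← mul_inv_rev, ← pow_succ', pow_succ]
      rw [hp, inv_inv, ← pow_add, show m + 1 + (m + 1) = orderOf d + 1 by omega, pow_succ,
        pow_orderOf_eq_one, one_mul]
  -- the kernel of the projection to `K₀`
  let Qs : Subgroup G := Dg ⊓ X.R
  have hcentral : ∀ q ∈ Qs, u * q * u ∈ Qs → ∀ y ∈ Y, q * y = y * q := by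
    intro q hq huq
    by_contra! hne
    obtain ⟨y, hyY, hy⟩ := hne
    have hlt : Nat.card (Y ⊓ centralizer ({q} : Set G) : Subgroup G) < Nat.card Y := by
      refine lt_of_le_of_ne (card_le_of_le inf_le_left) fun h => hy ?_
      have := (eq_of_le_of_card_ge inf_le_left h.ge).ge hyY
      exact (mem_centralizer_singleton_iff.1 this.2).symm
    have hKY' : X.K₀ ≤ Y ⊓ centralizer ({q} : Set G) := le_inf hKY fun k hk =>
      mem_centralizer_singleton_iff.2 (X.R_comm_K₀ hq.2 hk).symm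
    have hut : u * X.t * u ∈ Y ⊓ centralizer ({q} : Set G) := by
      refine ⟨mul_mem (mul_mem huY (hKY (X.W_le_K₀ (mem_wcl_self _)))) huY,
        mem_centralizer_singleton_iff.2 ?_⟩
      have h := X.R_comm_t huq.2
      have e1 := hconj X.t (u * q * u)
      rw [← h, hconj, hinvo] at e1
      exact e1.symm
    have ho : orderOf (u * X.t * u) = 2 := by
      have := orderOf_injective (MulAut.conj u).toMonoidHom (MulEquiv.injective _) X.t
      rw [X.ht] at this
      rwa [MulEquiv.toMonoidHom_eq_coe, MonoidHom.coe_coe, MulAut.conj_apply, hui] at this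
    have hH := ih _ hKY' (inf_le_left.trans hYM) (by omega) _ hut ho
    exact huH (X.mem_H_of_fused (g := u) X.ht (X.D₀_mem_H X.t_mem_D₀) (X.D₀_le_M X.t_mem_D₀)
      (by rwa [hui]))
  have hQn : ∀ d ∈ Dg, ∀ q ∈ Qs, d * q * d⁻¹ ∈ Qs := fun d hd q hq =>
    ⟨Dg.mul_mem (Dg.mul_mem hd hq.1) (Dg.inv_mem hd), X.H_conj_R hd.2.1 hq.2⟩
  let I : Subgroup G :=
    { carrier := {q | q ∈ Qs ∧ u * q * u ∈ Qs}
      one_mem' := ⟨one_mem _, by rw [mul_one, hu2]; exact one_mem _⟩
      mul_mem' := fun {a b} ha hb => ⟨mul_mem ha.1 hb.1, (hconj a b).symm ▸ mul_mem ha.2 hb.2⟩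
      inv_mem' := fun {a} ha => ⟨inv_mem ha.1, (hcinv a).symm ▸ inv_mem ha.2⟩ }
  have hIc : ∀ i ∈ I, ∀ y ∈ Y, i * y = y * i := fun i hi => hcentral i hi.1 hi.2
  have hIF : I ≤ F := fun i hi => ⟨hi.1.1, mem_centralizer_singleton_iff.2 (hIc i hi u huY)⟩
  have hcomm : ∀ a ∈ Qs, ∀ b ∈ Qs, ⁅a, u * b * u⁆ ∈ I := by
    intro a ha b hb
    have h1 : ∀ a ∈ Qs, ∀ b ∈ Qs, ⁅a, u * b * u⁆ ∈ Qs := fun a ha b hb => by
      rw [commutatorElement_def, show a * (u * b * u) * a⁻¹ * (u * b * u)⁻¹ =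
        a * ((u * b * u) * a⁻¹ * (u * b * u)⁻¹) by group]
      exact mul_mem ha (hQn _ (hDgu b hb.1) _ (inv_mem ha))
    refine ⟨h1 a ha b hb, ?_⟩
    have h2 : u * ⁅a, u * b * u⁆ * u = ⁅b, u * a * u⁆⁻¹ := by
      rw [commutatorElement_def, hconj, hconj, hconj, hcinv, hcinv, hinvo, commutatorElement_def]
      group
    rw [h2]
    exact inv_mem (h1 b hb a ha)
  -- twisted squares are fixed
  have hfixed : ∀ q ∈ Qs, q * (u * q * u) ∈ F := by
    intro q hq
    have hz := hcomm q hq q hq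
    set z := ⁅q, u * q * u⁆ with hzdef
    have hzu : u * z * u = z := by
      rw [← hIc z hz u huY, mul_assoc z, hu2, mul_one]
    have h2 : u * z * u = z⁻¹ := by
      rw [hzdef, commutatorElement_def, hconj, hconj, hconj, hcinv, hcinv, hinvo]
      group
    have hz1 : z = 1 := by
      by_contra h1
      have ho : orderOf z = 2 :=
        orderOf_eq_prime (by rw [sq]; nth_rw 1 [hzu.symm.trans h2]; exact inv_mul_cancel z) h1
      have := Subgroup.orderOf_dvd_natCard Dg hz.1.1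
      rw [ho] at this
      exact (Nat.not_even_iff_odd.2 hodd) (even_iff_two_dvd.2 this)
    have hc : q * (u * q * u) = u * q * u * q := commutatorElement_eq_one_iff_mul_comm.1 (hzdef ▸ hz1)
    refine ⟨mul_mem hq.1 (hDgu q hq.1), mem_centralizer_singleton_iff.2 ?_⟩
    have h : u * (q * (u * q * u)) * u = q * (u * q * u) := by rw [hconj, hinvo, hc]
    nth_rw 1 [← h]
    rw [mul_assoc, hu2, mul_one]
  haveI hIn : (I.subgroupOf F).Normal := ⟨fun x hx g => by
    show (g : G) * x * (g : G)⁻¹ ∈ I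
    rw [← hIc (x : G) hx (g : G) g.2.1.1, mul_inv_cancel_right]
    exact hx⟩
  have hQF : Nat.card Qs ∣ Nat.card F := by
    let φ : Qs →* F ⧸ I.subgroupOf F := MonoidHom.mk'
      (fun q => QuotientGroup.mk (⟨(q : G) * (u * q * u), hfixed q q.2⟩ : F)) fun a b => by
      rw [← QuotientGroup.mk_mul, QuotientGroup.eq]
      show ((a : G) * b * (u * (a * b) * u))⁻¹ * ((a : G) * (u * a * u) * (b * (u * b * u))) ∈ I
      rw [hconj]
      set α := u * (a : G) * u
      set β := u * (b : G) * u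
      have hz := hcomm b b.2 a a.2
      set z := ⁅(b : G), α⁆ with hzdef
      have hba : (b : G) * α = z * (α * b) := by rw [hzdef, commutatorElement_def]; group
      have hzβ : z * β = β * z := hIc _ hz _ (hDgu b b.2.1).1
      have hza : z * (a : G) = a * z := hIc _ hz _ a.2.1.1
      rw [show (a : G) * b * (α * β) = a * (b * α) * β by group, hba,
        show (a : G) * (z * (α * b)) * β = a * z * (α * b * β) by group, ← hza,
        show (z * (a : G) * (α * b * β))⁻¹ * ((a : G) * α * (b * β)) =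
          ((a : G) * (α * b * β))⁻¹ * z⁻¹ * ((a : G) * (α * b * β)) by group]
      rw [mul_assoc, hIc _ (inv_mem hz) _ (mul_mem a.2.1.1
        (mul_mem (mul_mem (hDgu a a.2.1).1 b.2.1.1) (hDgu b b.2.1).1)), inv_mul_cancel_left]
      exact inv_mem hz
    have hker : φ.ker = I.subgroupOf Qs := by
      ext q
      rw [MonoidHom.mem_ker]
      show (QuotientGroup.mk _ : F ⧸ I.subgroupOf F) = 1 ↔ _
      rw [QuotientGroup.eq_one_iff]
      show (q : G) * (u * q * u) ∈ I ↔ (q : G) ∈ I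
      refine ⟨fun h => ⟨q.2, ?_⟩, fun h => mul_mem h ⟨h.2, by rw [hinvo]; exact h.1⟩⟩
      have := mul_mem (inv_mem q.2) h.1
      rwa [inv_mul_cancel_left] at this
    have h1 := card_mul_index φ.ker
    rw [index_ker, hker] at h1
    have h2 := card_mul_index (I.subgroupOf F)
    rw [← h1, ← h2, Nat.card_congr (subgroupOfEquivOfLe (fun i hi => hi.1 : I ≤ Qs)).toEquiv,
      Nat.card_congr (subgroupOfEquivOfLe hIF).toEquiv, index_eq_card]
    exact mul_dvd_mul_left _ (card_subgroup_dvd_card _)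
  -- the image in `H/R ≅ J₁`
  haveI hRn : (X.R.subgroupOf X.H).Normal := ⟨fun r hr h => X.H_conj_R h.2 hr⟩
  let π : X.H →* X.H ⧸ X.R.subgroupOf X.H := QuotientGroup.mk' _
  have hbij : Function.Bijective (π.comp (inclusion X.K₀_le_H)) := by
    constructor
    · rw [← MonoidHom.ker_eq_bot_iff, eq_bot_iff]
      intro k hk
      exact mem_bot.2 (Subtype.ext (X.K₀_inf_R k.2 ((QuotientGroup.eq_one_iff (N := X.R.subgroupOf X.H) _).1 hk :)))
    · intro y
      obtain ⟨h, rfl⟩ := QuotientGroup.mk_surjective y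
      obtain ⟨k, hk, hkt⟩ := X.exists_K₀_conj (X.D₀_conj h.2 X.t_mem_D₀)
      have hc : k⁻¹ * (h : G) * X.t = X.t * (k⁻¹ * h) := by
        calc k⁻¹ * (h : G) * X.t = k⁻¹ * ((h : G) * X.t * (h : G)⁻¹) * h := by group
          _ = k⁻¹ * (k * X.t * k⁻¹) * h := by rw [hkt]
          _ = X.t * (k⁻¹ * h) := by group
      obtain ⟨w, hw, r, hr, he⟩ := X.split_C hc
      refine ⟨⟨k * w, mul_mem hk (X.W_le_K₀ hw)⟩, QuotientGroup.eq.2 ?_⟩
      show (k * w)⁻¹ * (h : G) ∈ X.R
      rw [show (k * w)⁻¹ * (h : G) = w⁻¹ * (k⁻¹ * h) by group, he, inv_mul_cancel_left]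
      exact hr
  obtain ⟨e⟩ := X.isoJ1_K₀
  let ψ : Dg →* X.H ⧸ X.R.subgroupOf X.H := π.comp (inclusion (fun d hd => hd.2.1))
  have hkerψ : ψ.ker = Qs.subgroupOf Dg := by
    ext d
    rw [MonoidHom.mem_ker]
    show (QuotientGroup.mk _ : X.H ⧸ X.R.subgroupOf X.H) = 1 ↔ _
    rw [QuotientGroup.eq_one_iff]
    exact ⟨fun h => ⟨d.2, h⟩, fun h => h.2⟩
  have hmul := card_mul_index ψ.ker
  rw [index_ker, hkerψ, Nat.card_congr (subgroupOfEquivOfLe (inf_le_left : Qs ≤ Dg)).toEquiv, hF] at hmul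
  obtain ⟨m, hm⟩ := hQF
  have hBc : Nat.card ψ.range = 1463 * m := by
    have hpos : 0 < Nat.card Qs := Nat.card_pos
    rw [hm] at hmul
    exact Nat.eq_of_mul_eq_mul_left hpos (hmul.trans (by ring))
  exact no_odd_subgroup ((MulEquiv.ofBijective _ hbij).symm.trans e) ψ.range
    (hodd.of_dvd_nat (card_range_dvd ψ)) (hBc ▸ dvd_mul_right 1463 m)

/-- The class lies in the component. -/
theorem D_subset_D₀ : X.D ⊆ X.D₀ := by
  intro x hx
  have hM : x ∈ X.M := subset_closure hx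
  have ho : orderOf x = 2 :=
    orderOf_eq_prime (by rw [sq]; exact X.sq_of_mem_D hx) (X.ne_one_of_mem_D hx)
  exact X.invol_H_M ho (X.invol_mem_H (Nat.card X.M + 1) X.M X.K₀_le_M le_rfl (by omega) x hM ho) hM

theorem normalClosure_eq : normalClosure ({X.t} : Set G) = X.K₀ := by
  have h : X.K₀ = X.M := le_antisymm X.K₀_le_M (closure_mono X.D_subset_D₀)
  haveI : X.K₀.Normal := h.symm ▸ X.M_normal
  have h1 : normalClosure ({X.t} : Set G) ≤ X.K₀ :=
    normalClosure_le_normal (Set.singleton_subset_iff.2 (X.W_le_K₀ (mem_wcl_self X.t)))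
  have h2 : closure X.D₀ ≤ normalClosure ({X.t} : Set G) := by
    rw [closure_le]
    intro x hx
    obtain ⟨g, hg⟩ := X.D₀_subset hx
    rw [hg]
    exact (normalClosure_normal (s := ({X.t} : Set G))).conj_mem X.t
      (subset_normalClosure (Set.mem_singleton X.t)) g
  exact le_antisymm h1 h2

end Cfsg.Agent.Coprime.J1.Closure.Hyp
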