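import Cfsg.Agent.Coprime.J1.Closure.Model
import Cfsg.Agent.H59.StrongClosure
import Cfsg.Agent.H39.Basic

/-!
# A 2-central involution with weak closure `2 × A₅` in its centraliser

`Hyp G` fixes the involution `t`, a Sylow 2-subgroup `S` centralising it and an identification `emb` of
the weak closure `W` with the model such that `S ∩ W` is the image of the model Sylow subgroup.
-/

set_option autoImplicit false
set_option linter.unusedSectionVars false
set_option linter.style.haveILetI false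

namespace Cfsg.Agent.Coprime.J1.Closure

open Subgroup

variable {G : Type*} [Group G]

/-- The conjugates of `t`. -/
def cls (t : G) : Set G := {x | ∃ g : G, x = g * t * g⁻¹}

/-- The weak closure of `t` in its centraliser. -/
def wcl (t : G) : Subgroup G := closure {x : G | ∃ g : G, x = g * t * g⁻¹ ∧ x * t = t * x}

/-- The hypothesis, with an adjusted identification of the weak closure. -/
structure Hyp (G : Type*) [Group G] where
  t : G
  ht : orderOf t = 2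
  S : Sylow 2 G
  htc : ∀ s ∈ (S : Subgroup G), s * t = t * s
  emb : C₀ →* G
  emb_inj : Function.Injective emb
  emb_range : emb.range = wcl t
  emb_S₀ : S₀.map emb = (S : Subgroup G) ⊓ wcl t

theorem mem_wcl_self (t : G) : t ∈ wcl t := subset_closure ⟨1, by group, rfl⟩

theorem wcl_le_centralizer (t : G) : wcl t ≤ centralizer ({t} : Set G) :=
  (closure_le _).2 fun _ ⟨_, _, hc⟩ => mem_centralizer_singleton_iff.2 hc

theorem conj_mem_wcl {t c : G} (hc : c * t = t * c) {x : G} (hx : x ∈ wcl t) :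
    c * x * c⁻¹ ∈ wcl t := by
  induction hx using closure_induction with
  | mem x hx =>
    obtain ⟨g, rfl, hg⟩ := hx
    refine subset_closure ⟨c * g, by group, ?_⟩
    have hct : c * t * c⁻¹ = t := by rw [hc, mul_inv_cancel_right]
    calc c * (g * t * g⁻¹) * c⁻¹ * t = c * (g * t * g⁻¹) * c⁻¹ * (c * t * c⁻¹) := by rw [hct]
      _ = c * (g * t * g⁻¹ * t) * c⁻¹ := by group
      _ = c * (t * (g * t * g⁻¹)) * c⁻¹ := by rw [hg]
      _ = c * t * c⁻¹ * (c * (g * t * g⁻¹) * c⁻¹) := by group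
      _ = t * (c * (g * t * g⁻¹) * c⁻¹) := by rw [hct]
  | one => simp
  | mul a b _ _ ha hb =>
    rw [show c * (a * b) * c⁻¹ = c * a * c⁻¹ * (c * b * c⁻¹) by group]
    exact mul_mem ha hb
  | inv a _ ha => rw [show c * a⁻¹ * c⁻¹ = (c * a * c⁻¹)⁻¹ by group]; exact inv_mem ha

/-- The hypothesis of the theorem gives the adjusted data. -/
theorem exists_hyp [Finite G] (t : G) (ht : orderOf t = 2) (S : Sylow 2 G)
    (htc : ∀ s ∈ (S : Subgroup G), s * t = t * s)
    (hW : Nonempty (↥(wcl t) ≃* C₀)) : ∃ X : Hyp G, X.t = t := by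
  obtain ⟨e⟩ := hW
  haveI : Fact (Nat.Prime 2) := ⟨Nat.prime_two⟩
  let f : C₀ →* G := (wcl t).subtype.comp e.symm.toMonoidHom
  have hf : Function.Injective f := Subtype.val_injective.comp e.symm.injective
  have hfr : f.range = wcl t := by
    rw [MonoidHom.range_comp, MonoidHom.range_eq_top.2 e.symm.surjective, ← MonoidHom.range_eq_map,
      range_subtype]
  have hSC : (S : Subgroup G) ≤ centralizer ({t} : Set G) := fun s hs =>
    mem_centralizer_singleton_iff.2 (htc s hs)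
  have hp : IsPGroup 2 (S₀.map f) := (IsPGroup.of_card (n := 3)
    (show Nat.card S₀ = 2 ^ 3 by rw [Nat.card_eq_fintype_card, card_S₀]; norm_num)).map f
  have hle : S₀.map f ≤ centralizer ({t} : Set G) :=
    ((map_le_range f _).trans hfr.le).trans (wcl_le_centralizer t)
  obtain ⟨c, hc, hcS⟩ := H39.exists_conj_mem_le_sylow hp hle S hSC
  have hct : c * t = t * c := mem_centralizer_singleton_iff.1 hc
  let g : C₀ →* G := (MulAut.conj c).toMonoidHom.comp f
  have hgr : g.range = wcl t := by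
    refine le_antisymm ?_ fun x hx => ?_
    · rintro _ ⟨y, rfl⟩
      exact conj_mem_wcl hct (hfr.le ⟨y, rfl⟩)
    · have hci : c⁻¹ * t = t * c⁻¹ := (Commute.inv_left hct).eq
      have h := conj_mem_wcl hci hx
      rw [inv_inv] at h
      obtain ⟨y, hy⟩ := hfr.ge h
      exact ⟨y, show c * f y * c⁻¹ = x by rw [hy]; group⟩
  have hginj : Function.Injective g := (MulAut.conj c).injective.comp hf
  refine ⟨{ t := t, ht := ht, S := S, htc := htc, emb := g, emb_inj := hginj, emb_range := hgr,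
            emb_S₀ := ?_ }, rfl⟩
  have hle' : S₀.map g ≤ (S : Subgroup G) ⊓ wcl t := by
    refine le_inf ?_ ((map_le_range g _).trans hgr.le)
    rintro _ ⟨y, hy, rfl⟩
    exact hcS _ (mem_map_of_mem f hy)
  refine eq_of_le_of_card_ge hle' ?_
  rw [card_map_of_injective hginj, show Nat.card S₀ = 8 by rw [Nat.card_eq_fintype_card, card_S₀]]
  obtain ⟨k, hk⟩ := IsPGroup.iff_card.1 (S.2.to_le (inf_le_left : (S : Subgroup G) ⊓ wcl t ≤ S))
  have hd : 2 ^ k ∣ 120 := by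
    rw [← hk, ← card_C₀, ← Nat.card_congr e.toEquiv]
    exact card_dvd_of_le inf_le_right
  rw [hk]
  have hk3 : k ≤ 3 := by
    by_contra hcon
    exact absurd ((pow_dvd_pow 2 (Nat.not_le.1 hcon)).trans hd) (by norm_num)
  exact Nat.pow_le_pow_right (by norm_num) hk3 |>.trans (by norm_num)

namespace Hyp

variable (X : Hyp G)

/-- The weak closure. -/
abbrev W : Subgroup G := wcl X.t

/-- The conjugates of `t`. -/
abbrev D : Set G := cls X.t

/-- The elementary abelian subgroup of order eight. -/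
abbrev E : Subgroup G := S₀.map X.emb

theorem t_mem_D : X.t ∈ X.D := ⟨1, by group⟩

theorem conj_mem_D {x : G} (hx : x ∈ X.D) (g : G) : g * x * g⁻¹ ∈ X.D := by
  obtain ⟨k, rfl⟩ := hx
  exact ⟨g * k, by group⟩

theorem ne_one_of_mem_D {x : G} (hx : x ∈ X.D) : x ≠ 1 := by
  obtain ⟨g, rfl⟩ := hx
  intro h
  have h1 : X.t = 1 := by
    have := congrArg (fun y => g⁻¹ * y * g) h
    simpa [mul_assoc] using this
  have := X.ht
  rw [h1, orderOf_one] at this
  omega

theorem sq_of_mem_D {x : G} (hx : x ∈ X.D) : x * x = 1 := by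
  obtain ⟨g, rfl⟩ := hx
  have ht2 : X.t * X.t = 1 := by rw [← sq, ← X.ht, pow_orderOf_eq_one]
  rw [show g * X.t * g⁻¹ * (g * X.t * g⁻¹) = g * (X.t * X.t) * g⁻¹ by group, ht2]
  group

theorem mem_W_of_comm {x : G} (hx : x ∈ X.D) (hc : x * X.t = X.t * x) : x ∈ X.W := by
  obtain ⟨g, rfl⟩ := hx
  exact subset_closure ⟨g, rfl, hc⟩

theorem emb_mem_W (c : C₀) : X.emb c ∈ X.W := X.emb_range.le ⟨c, rfl⟩

theorem exists_emb {x : G} (hx : x ∈ X.W) : ∃ c, X.emb c = x := X.emb_range.ge hx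

theorem comm_t {x : G} (hx : x ∈ X.W) : x * X.t = X.t * x :=
  mem_centralizer_singleton_iff.1 (wcl_le_centralizer X.t hx)

theorem emb_t₀ : X.emb t₀ = X.t := by
  obtain ⟨c, hc⟩ := X.exists_emb (mem_wcl_self X.t)
  rcases center_C₀ c (fun g => X.emb_inj (by
    rw [map_mul, map_mul, hc]; exact X.comm_t (X.emb_mem_W g))) with rfl | rfl
  · exact absurd (by rw [← hc, map_one]) (X.ne_one_of_mem_D X.t_mem_D)
  · exact hc

theorem conj_emb (g c : C₀) : X.emb g * X.emb c * (X.emb g)⁻¹ = X.emb (g * c * g⁻¹) := by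
  rw [map_mul, map_mul, map_inv]

theorem E_le_S : X.E ≤ (X.S : Subgroup G) := X.emb_S₀.le.trans inf_le_left

theorem E_le_W : X.E ≤ X.W := X.emb_S₀.le.trans inf_le_right

theorem emb_mem_E {c : C₀} : X.emb c ∈ X.E ↔ c ∈ S₀ :=
  Subgroup.mem_map_iff_mem X.emb_inj

theorem t_mem_E : X.t ∈ X.E := X.emb_t₀ ▸ X.emb_mem_E.2 v₄_mem.2.2

theorem card_E : Nat.card X.E = 8 := by
  rw [card_map_of_injective X.emb_inj, Nat.card_eq_fintype_card, card_S₀]

theorem E_sq {x : G} (hx : x ∈ X.E) : x * x = 1 := by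
  obtain ⟨c, hc, rfl⟩ := hx
  rw [← map_mul, S₀_sq c hc, map_one]

theorem E_comm {x y : G} (hx : x ∈ X.E) (hy : y ∈ X.E) : x * y = y * x := by
  have h1 := X.E_sq (mul_mem hx hy)
  rw [← inv_eq_of_mul_eq_one_left h1, mul_inv_rev, inv_eq_of_mul_eq_one_left (X.E_sq hx),
    inv_eq_of_mul_eq_one_left (X.E_sq hy)]

theorem mem_E_of_mem_S {x : G} (hx : x ∈ X.D) (hS : x ∈ (X.S : Subgroup G)) : x ∈ X.E :=
  X.emb_S₀.ge ⟨hS, X.mem_W_of_comm hx (X.htc x hS)⟩

theorem S_conj_E {s : G} (hs : s ∈ (X.S : Subgroup G)) : s ∈ normalizer (X.E : Set G) := by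
  have key : ∀ s ∈ (X.S : Subgroup G), ∀ x ∈ X.E, s * x * s⁻¹ ∈ X.E := fun s hs x hx =>
    X.emb_S₀.ge ⟨(X.S : Subgroup G).mul_mem ((X.S : Subgroup G).mul_mem hs (X.E_le_S hx))
      ((X.S : Subgroup G).inv_mem hs),
      conj_mem_wcl (X.htc s hs) (X.E_le_W hx)⟩
  refine mem_normalizer_iff.2 fun x => ⟨key s hs x, fun h => ?_⟩
  have := key s⁻¹ ((X.S : Subgroup G).inv_mem hs) _ h
  rwa [show s⁻¹ * (s * x * s⁻¹) * s⁻¹⁻¹ = x by group] at this

theorem emb_normalizes {g : C₀} (hg : Nrm g) : X.emb g ∈ normalizer (X.E : Set G) := by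
  have key : ∀ g : C₀, Nrm g → ∀ x ∈ X.E, X.emb g * x * (X.emb g)⁻¹ ∈ X.E := by
    rintro g hg _ ⟨c, hc, rfl⟩
    rw [conj_emb]
    exact X.emb_mem_E.2 (hg c hc)
  have hmap : X.E.map (MulAut.conj (X.emb g)).toMonoidHom = X.E := by
    refine le_antisymm ?_ ?_
    · rintro _ ⟨x, hx, rfl⟩
      exact key g hg x hx
    · rintro _ ⟨c, hc, rfl⟩
      have hinj : Function.Injective (fun s : S₀ => (⟨g * s * g⁻¹, hg s s.2⟩ : S₀)) := by
        intro a b h
        exact Subtype.ext (mul_left_cancel (mul_right_cancel (congrArg Subtype.val h)))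
      obtain ⟨d, hd⟩ := (Finite.injective_iff_surjective.1 hinj) ⟨c, hc⟩
      refine ⟨X.emb d, X.emb_mem_E.2 d.2, ?_⟩
      show X.emb g * X.emb d * (X.emb g)⁻¹ = _
      rw [conj_emb]
      exact congrArg (fun z : S₀ => X.emb z) hd
  refine mem_normalizer_iff.2 fun x => ⟨key g hg x, fun h => ?_⟩
  rw [← hmap] at h
  obtain ⟨y, hy, he⟩ := h
  rwa [show y = x from (MulAut.conj (X.emb g)).injective he] at hy

variable [Finite G]

theorem exists_other : X.emb (1, v₄) ∈ X.D ∨ X.emb (tu, v₄) ∈ X.D := by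
  by_contra hcon
  push Not at hcon
  have hgen : X.W ≤ zpowers X.t := by
    refine (closure_le _).2 fun x ⟨g, hg, hc⟩ => ?_
    obtain ⟨c, rfl⟩ := X.exists_emb (subset_closure ⟨g, hg, hc⟩ : x ∈ X.W)
    have hD : X.emb c ∈ X.D := ⟨g, hg⟩
    have hc2 : c * c = 1 := X.emb_inj (by rw [map_mul, map_one]; exact X.sq_of_mem_D hD)
    rcases sq_cases c hc2 with rfl | rfl | ⟨k, rfl⟩ | ⟨k, rfl⟩
    · rw [map_one]; exact one_mem _
    · rw [emb_t₀]; exact mem_zpowers _
    · refine absurd ?_ hcon.1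
      have := X.conj_mem_D hD (X.emb k)⁻¹
      rw [← conj_emb] at this
      simpa [mul_assoc] using this
    · refine absurd ?_ hcon.2
      have := X.conj_mem_D hD (X.emb k)⁻¹
      rw [← conj_emb] at this
      simpa [mul_assoc] using this
  have h1 := card_dvd_of_le hgen
  rw [Nat.card_zpowers, X.ht, show Nat.card X.W = 120 by
    rw [← card_C₀]
    exact (Nat.card_congr ((MonoidHom.ofInjective X.emb_inj).trans
      (MulEquiv.subgroupCongr X.emb_range)).toEquiv).symm] at h1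
  exact absurd (Nat.le_of_dvd two_pos h1) (by norm_num)

/-- `E` is generated by the conjugates of `t` inside it. -/
theorem E_le_closure : X.E ≤ closure {x : G | x ∈ X.D ∧ x ∈ X.E} := by
  have key : ∀ v : C₀, v ∈ S₀ → X.emb v ∈ X.D → ∀ a : C₀, Gen v a →
      X.emb a ∈ closure {x : G | x ∈ X.D ∧ x ∈ X.E} := by
    rintro v hv hvD a (rfl | rfl | ⟨g, hg, rfl⟩)
    · rw [map_one]; exact one_mem _
    · exact subset_closure ⟨X.emb_t₀ ▸ X.t_mem_D, X.emb_t₀ ▸ X.t_mem_E⟩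
    · refine subset_closure ⟨?_, X.emb_mem_E.2 (hg v hv)⟩
      rw [← conj_emb]
      exact X.conj_mem_D hvD _
  rintro _ ⟨c, hc, rfl⟩
  rcases X.exists_other with h | h
  · obtain ⟨a, b, ha, hb, rfl⟩ := gen_one c hc
    rw [map_mul]
    exact mul_mem (key _ v₄_mem.1 h a ha) (key _ v₄_mem.1 h b hb)
  · obtain ⟨a, b, ha, hb, rfl⟩ := gen_tu c hc
    rw [map_mul]
    exact mul_mem (key _ v₄_mem.2.1 h a ha) (key _ v₄_mem.2.1 h b hb)

theorem exists_normalizer_conj {x : G} (hx : x ∈ X.D) (hxE : x ∈ X.E) :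
    ∃ n ∈ normalizer (X.E : Set G), n * X.t * n⁻¹ = x := by
  haveI : Fact (Nat.Prime 2) := ⟨Nat.prime_two⟩
  obtain ⟨g, rfl⟩ := hx
  let E' : Subgroup G := X.E.map (MulAut.conj g⁻¹).toMonoidHom
  have hE'C : E' ≤ centralizer ({X.t} : Set G) := by
    rintro _ ⟨y, hy, rfl⟩
    refine mem_centralizer_singleton_iff.2 ?_
    show g⁻¹ * y * g⁻¹⁻¹ * X.t = X.t * (g⁻¹ * y * g⁻¹⁻¹)
    have h := X.E_comm hy hxE
    calc g⁻¹ * y * g⁻¹⁻¹ * X.t = g⁻¹ * (y * (g * X.t * g⁻¹)) * g := by group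
      _ = g⁻¹ * ((g * X.t * g⁻¹) * y) * g := by rw [h]
      _ = X.t * (g⁻¹ * y * g⁻¹⁻¹) := by group
  have hE' : IsPGroup 2 E' :=
    (IsPGroup.of_card (n := 3) (by rw [X.card_E]; norm_num)).map _
  obtain ⟨c, hc, hcS⟩ := H39.exists_conj_mem_le_sylow hE' hE'C X.S
    (fun s hs => mem_centralizer_singleton_iff.2 (X.htc s hs))
  have hmap : X.E.map (MulAut.conj (c * g⁻¹)).toMonoidHom = X.E := by
    refine eq_of_le_of_card_ge ?_
      (card_map_of_injective (K := X.E) (f := (MulAut.conj (c * g⁻¹)).toMonoidHom)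
        (MulAut.conj (c * g⁻¹)).injective).ge
    refine (map_mono X.E_le_closure).trans ?_
    rw [MonoidHom.map_closure, closure_le]
    rintro _ ⟨y, ⟨hyD, hyE⟩, rfl⟩
    refine X.mem_E_of_mem_S (X.conj_mem_D hyD _) ?_
    have := hcS _ ⟨y, hyE, rfl⟩
    show c * g⁻¹ * y * (c * g⁻¹)⁻¹ ∈ (X.S : Subgroup G)
    rw [show c * g⁻¹ * y * (c * g⁻¹)⁻¹ = c * (g⁻¹ * y * g⁻¹⁻¹) * c⁻¹ by group]
    exact this
  have hn : c * g⁻¹ ∈ normalizer (X.E : Set G) := by
    refine mem_normalizer_iff.2 fun y => ⟨fun h => hmap.le ⟨y, h, rfl⟩, fun h => ?_⟩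
    obtain ⟨z, hz, he⟩ := hmap.ge h
    rwa [show z = y from (MulAut.conj (c * g⁻¹)).injective he] at hz
  refine ⟨(c * g⁻¹)⁻¹, inv_mem hn, ?_⟩
  have hct : c⁻¹ * X.t = X.t * c⁻¹ :=
    (Commute.inv_left (show Commute c X.t from mem_centralizer_singleton_iff.1 hc)).eq
  calc (c * g⁻¹)⁻¹ * X.t * (c * g⁻¹)⁻¹⁻¹ = g * (c⁻¹ * X.t) * c * g⁻¹ := by group
    _ = g * (X.t * c⁻¹) * c * g⁻¹ := by rw [hct]
    _ = g * X.t * g⁻¹ := by group

theorem card_conj_normalizer_odd :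
    Odd (Nat.card {x : G // ∃ n ∈ normalizer (X.E : Set G), n * X.t * n⁻¹ = x}) := by
  haveI : Fact (Nat.Prime 2) := ⟨Nat.prime_two⟩
  set N := normalizer (X.E : Set G)
  let T : Subgroup G := centralizer ({X.t} : Set G)
  have e : {x : G // ∃ n ∈ N, n * X.t * n⁻¹ = x} ≃ N ⧸ T.subgroupOf N := by
    refine (Equiv.ofBijective
      (Quotient.lift (fun n : N => (⟨(n : G) * X.t * (n : G)⁻¹, n, n.2, rfl⟩ :
        {x : G // ∃ n ∈ N, n * X.t * n⁻¹ = x})) ?_) ⟨?_, ?_⟩).symm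
    · intro a b hab
      apply Subtype.ext
      have h : (a : G)⁻¹ * b ∈ T := QuotientGroup.leftRel_apply (s := T.subgroupOf N).1 hab
      have hc : (a : G)⁻¹ * b * X.t = X.t * ((a : G)⁻¹ * b) := mem_centralizer_singleton_iff.1 h
      calc (a : G) * X.t * (a : G)⁻¹ = a * (X.t * ((a : G)⁻¹ * b)) * (b : G)⁻¹ := by group
        _ = a * ((a : G)⁻¹ * b * X.t) * (b : G)⁻¹ := by rw [hc]
        _ = b * X.t * (b : G)⁻¹ := by group
    · rintro ⟨a⟩ ⟨b⟩ hab
      refine Quotient.sound (QuotientGroup.leftRel_apply.2 ?_)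
      have h : (a : G) * X.t * (a : G)⁻¹ = b * X.t * (b : G)⁻¹ := congrArg Subtype.val hab
      show (a : G)⁻¹ * b ∈ T
      refine mem_centralizer_singleton_iff.2 ?_
      calc (a : G)⁻¹ * b * X.t = (a : G)⁻¹ * ((b : G) * X.t * (b : G)⁻¹) * b := by group
        _ = (a : G)⁻¹ * ((a : G) * X.t * (a : G)⁻¹) * b := by rw [h]
        _ = X.t * ((a : G)⁻¹ * b) := by group
    · rintro ⟨_, n, hn, rfl⟩
      exact ⟨QuotientGroup.mk ⟨n, hn⟩, rfl⟩
  rw [Nat.card_congr e, ← index_eq_card]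
  have hST : (X.S : Subgroup G) ≤ T := fun s hs => mem_centralizer_singleton_iff.2 (X.htc s hs)
  have hSN : (X.S : Subgroup G) ≤ N := fun s hs => X.S_conj_E hs
  have hd : (T.subgroupOf N).index ∣ (X.S : Subgroup G).index :=
    (relIndex_dvd_of_le_left (L := N) hST).trans (Dvd.intro _ (relIndex_mul_index hSN))
  have hodd : Odd (X.S : Subgroup G).index :=
    Nat.not_even_iff_odd.1 fun h => X.S.not_dvd_index (even_iff_two_dvd.1 h)
  exact hodd.of_dvd_nat hd

theorem emb_mem_D {c : C₀} (hc : c ∈ S₀) (hc1 : c ≠ 1) : X.emb c ∈ X.D := by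
  classical
  have hF : ∀ v : C₀, v ∈ S₀ → X.emb v ∈ X.D → ∀ c, Half v c → X.emb c ∈ X.D := by
    rintro v - hv _ ⟨g, -, rfl⟩
    rw [← conj_emb]
    exact X.conj_mem_D hv _
  by_contra hcD
  -- the set of model elements landing in the class
  let F : Finset C₀ := Finset.univ.filter fun c => c ∈ S₀ ∧ X.emb c ∈ X.D
  have hcard : Nat.card {x : G // ∃ n ∈ normalizer (X.E : Set G), n * X.t * n⁻¹ = x} = F.card := by
    rw [← Nat.card_eq_finsetCard F]
    refine (Nat.card_congr (Equiv.ofBijective (fun c : F => (⟨X.emb c,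
      X.exists_normalizer_conj ((Finset.mem_filter.1 c.2).2.2)
        (X.emb_mem_E.2 (Finset.mem_filter.1 c.2).2.1)⟩ :
        {x : G // ∃ n ∈ normalizer (X.E : Set G), n * X.t * n⁻¹ = x})) ⟨?_, ?_⟩)).symm
    · intro a b h
      exact Subtype.ext (X.emb_inj (congrArg Subtype.val h))
    · rintro ⟨_, n, hn, rfl⟩
      obtain ⟨d, hd, hde⟩ := (mem_normalizer_iff.1 hn X.t).1 X.t_mem_E
      exact ⟨⟨d, Finset.mem_filter.2 ⟨Finset.mem_univ _, hd, hde ▸ X.conj_mem_D X.t_mem_D n⟩⟩,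
        Subtype.ext hde⟩
  have hodd := X.card_conj_normalizer_odd
  rw [hcard] at hodd
  have ht₀ : X.emb t₀ ∈ X.D := X.emb_t₀.symm ▸ X.t_mem_D
  obtain ⟨h1, h2⟩ := S₀_halves
  have hfalse : ∀ v w : C₀, v ∈ S₀ → X.emb v ∈ X.D → X.emb w ∉ X.D →
      (∀ d, d ∈ S₀ → d = 1 ∨ d = t₀ ∨ Half v d ∨ Half w d) → w ∈ S₀ →
      ((Finset.univ : Finset C₀).filter fun c => c = t₀ ∨ Half v c).card = 4 → False := by
    intro v w hv hvD hwD hall hw h4
    have hFe : F = (Finset.univ : Finset C₀).filter fun c => c = t₀ ∨ Half v c := by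
      ext d
      simp only [F, Finset.mem_filter, Finset.mem_univ, true_and]
      constructor
      · rintro ⟨hd, hdD⟩
        rcases hall d hd with rfl | h | h | ⟨g, hg, rfl⟩
        · exact absurd (map_one X.emb) (X.ne_one_of_mem_D hdD)
        · exact Or.inl h
        · exact Or.inr h
        · refine absurd ?_ hwD
          have := X.conj_mem_D hdD (X.emb g)⁻¹
          rw [← conj_emb] at this
          simpa [mul_assoc] using this
      · rintro (rfl | h)
        · exact ⟨v₄_mem.2.2, ht₀⟩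
        · obtain ⟨g, hg, rfl⟩ := h
          exact ⟨hg v hv, hF v hv hvD _ ⟨g, hg, rfl⟩⟩
    rw [hFe, h4] at hodd
    exact absurd hodd (by decide)
  by_cases ha : X.emb (1, v₄) ∈ X.D
  · by_cases hb : X.emb (tu, v₄) ∈ X.D
    · rcases S₀_classes c hc with h | rfl | h | h
      exacts [hc1 h, hcD ht₀, hcD (hF _ v₄_mem.1 ha c h), hcD (hF _ v₄_mem.2.1 hb c h)]
    · exact hfalse _ _ v₄_mem.1 ha hb S₀_classes v₄_mem.2.1 h1
  · refine hfalse _ _ v₄_mem.2.1 (X.exists_other.resolve_left ha) ha (fun d hd => ?_) v₄_mem.1 h2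
    rcases S₀_classes d hd with h | h | h | h
    exacts [Or.inl h, Or.inr (Or.inl h), Or.inr (Or.inr (Or.inr h)), Or.inr (Or.inr (Or.inl h))]

theorem mem_D_of_mem_E {x : G} (hx : x ∈ X.E) (h1 : x ≠ 1) : x ∈ X.D := by
  obtain ⟨c, hc, rfl⟩ := hx
  exact X.emb_mem_D hc fun h => h1 (h ▸ map_one X.emb)

theorem exists_conj_t {x : G} (hx : x ∈ X.E) (h1 : x ≠ 1) :
    ∃ n ∈ normalizer (X.E : Set G), n * X.t * n⁻¹ = x :=
  X.exists_normalizer_conj (X.mem_D_of_mem_E hx h1) hx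

theorem stronglyClosed : Cfsg.IsStronglyClosed X.E (X.S : Subgroup G) := by
  refine ⟨X.E_le_S, fun x hx g hg => ?_⟩
  rcases eq_or_ne x 1 with rfl | h1
  · simp
  · exact X.mem_E_of_mem_S (X.conj_mem_D (X.mem_D_of_mem_E hx h1) g) hg

/-- Fusion in `S` is induced by the normaliser of `E`. -/
theorem fusion {A : Set G} (hA : A ⊆ (X.S : Subgroup G)) {g : G}
    (hg : ∀ a ∈ A, g * a * g⁻¹ ∈ (X.S : Subgroup G)) :
    ∃ n ∈ normalizer (X.E : Set G), ∀ a ∈ A, g * a * g⁻¹ = n * a * n⁻¹ := by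
  haveI : Fact (Nat.Prime 2) := ⟨Nat.prime_two⟩
  have hA' : IsMulCommutative X.E := ⟨⟨fun a b => Subtype.ext (X.E_comm a.2 b.2)⟩⟩
  have hg' : (fun a => g⁻¹⁻¹ * a * g⁻¹) '' A ⊆ ((X.S : Subgroup G) : Set G) := by
    rintro _ ⟨a, ha, rfl⟩
    show g⁻¹⁻¹ * a * g⁻¹ ∈ (X.S : Subgroup G)
    rw [inv_inv]
    exact hg a ha
  obtain ⟨s, hs, h⟩ := H59.induced_of_conn X.S X.E (Fusion.alperin X.S hA hg') fun Q hQ _ =>
    H59.induced_tame X.S X.E hA' X.stronglyClosed (Nat.card G + 1) Q hQ (by omega)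
  exact ⟨s⁻¹, inv_mem hs, fun a ha => by simpa using h a ha⟩

/-- Every involution of `W` is a conjugate of `t`. -/
theorem W_involution {c : C₀} (hc : c * c = 1) (h1 : c ≠ 1) : X.emb c ∈ X.D := by
  rcases sq_cases c hc with rfl | rfl | ⟨g, rfl⟩ | ⟨g, rfl⟩
  · exact absurd rfl h1
  · exact X.emb_t₀.symm ▸ X.t_mem_D
  · rw [← conj_emb]
    exact X.conj_mem_D (X.emb_mem_D v₄_mem.1 fun h => inV_v₄.2 (congrArg Prod.snd h)) _
  · rw [← conj_emb]
    exact X.conj_mem_D (X.emb_mem_D v₄_mem.2.1 fun h => inV_v₄.2 (congrArg Prod.snd h)) _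

end Hyp

end Cfsg.Agent.Coprime.J1.Closure
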