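import Cfsg.Agent.Coprime.J1.Local

/-!
# Facts about the model `2 × A₅` and its Sylow 2-subgroup
-/

set_option autoImplicit false
set_option linter.style.haveILetI false
set_option synthInstance.maxSize 1024

namespace Cfsg.Agent.Coprime.J1.Closure

open Equiv

/-- Membership in the four group fixing the last point. -/
def InV (a : A) : Prop := a * a = 1 ∧ (a : Perm (Fin 5)) 4 = 4

instance decInV (a : A) : Decidable (InV a) :=
  inferInstanceAs (Decidable (a * a = 1 ∧ (a : Perm (Fin 5)) 4 = 4))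

theorem prod_three : ∀ a : A, ∃ x y : A, x * x * x = 1 ∧ y * y * y = 1 ∧ x * y = a := by decide +kernel

theorem perm_centralize : ∀ π : Perm (Fin 5), (∀ v : A, InV v → π * v = v * π) →
    ∃ v : A, InV v ∧ π = v := by decide +kernel

theorem perm_split : ∀ π : Perm (Fin 5), ∃ a : A, π = (a : Perm (Fin 5)) ∨ π = (a : Perm (Fin 5)) * swap 0 1 := by decide +kernel

theorem sq_cases : ∀ c : C₀, c * c = 1 → c = 1 ∨ c = t₀ ∨
    (∃ g : C₀, g * (1, v₄) * g⁻¹ = c) ∨ (∃ g : C₀, g * (tu, v₄) * g⁻¹ = c) := by decide +kernel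

theorem centralize_S₀ : ∀ c : C₀, (∀ s : C₀, s ∈ S₀ → c * s = s * c) → c ∈ S₀ := by decide +kernel

theorem two_normalize : ∀ c : C₀, c ^ 8 = 1 → Nrm c → c ∈ S₀ := by decide +kernel

theorem tu_cases : ∀ z : Multiplicative (ZMod 2), z = 1 ∨ z = tu := by decide +kernel

theorem t₀_sq : t₀ * t₀ = 1 ∧ t₀ ≠ 1 ∧ ∀ a : A, ((1 : Multiplicative (ZMod 2)), a) ≠ t₀ := by
  decide +kernel

theorem card_A : Nat.card A = 60 := by
  rw [Nat.card_eq_fintype_card]; decide +kernel

/-- The model has no normal subgroup of odd order. -/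
theorem eq_bot_of_odd (N : Subgroup C₀) [hN : N.Normal] (hodd : Odd (Nat.card N)) : N = ⊥ := by
  let p : C₀ →* A := MonoidHom.snd _ _
  have hp : Function.Surjective p := fun a => ⟨(1, a), rfl⟩
  haveI : (N.map p).Normal := hN.map p hp
  haveI : IsSimpleGroup A := alternatingGroup.isSimpleGroup_five
  rcases (inferInstance : (N.map p).Normal).eq_bot_or_eq_top with h | h
  · rw [eq_bot_iff]
    intro c hc
    have hc2 : c.2 = 1 := Subgroup.mem_bot.1 (h ▸ Subgroup.mem_map_of_mem p hc)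
    rcases tu_cases c.1 with h1 | h1
    · exact Subgroup.mem_bot.2 (Prod.ext h1 hc2)
    · exfalso
      have hd := Subgroup.orderOf_dvd_natCard N hc
      have ht : c = t₀ := Prod.ext h1 hc2
      rw [ht, orderOf_eq_prime (p := 2) (by rw [sq]; exact t₀_sq.1) t₀_sq.2.1] at hd
      exact (Nat.not_even_iff_odd.2 hodd) (even_iff_two_dvd.2 hd)
  · exfalso
    have hd := N.card_map_dvd p
    rw [h, Subgroup.card_top, card_A] at hd
    exact (Nat.not_even_iff_odd.2 hodd) (even_iff_two_dvd.2 ((by norm_num : 2 ∣ 60).trans hd))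

theorem x₃_fixed : ∀ a : A, InV a → x₃ * a = a * x₃ → a = 1 := by decide +kernel

theorem x₃_nrm : Nrm ((1, x₃) : C₀) := by decide +kernel

theorem x₃_move : x₃ * v₄ ≠ v₄ * x₃ := by decide +kernel

theorem inV_v₄ : InV v₄ ∧ v₄ ≠ 1 := by decide +kernel

theorem swap_V : ∀ v : A, InV v →
    InV (MulAut.conjNormal (swap (0 : Fin 5) 1) v) := by decide +kernel

theorem swap_fix : MulAut.conjNormal (swap (0 : Fin 5) 1) v₄ = v₄ := by decide +kernel

theorem swap_move : ∃ v : A, InV v ∧ MulAut.conjNormal (swap (0 : Fin 5) 1) v ≠ v := by decide +kernel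

theorem v₄_ne : ((1 : Multiplicative (ZMod 2)), v₄) ≠ t₀ := by decide +kernel

theorem card_S₀_ne : (Finset.univ.filter fun c : C₀ => c ∈ S₀ ∧ c ≠ 1).card = 7 := by decide +kernel

theorem card_V_ne : (Finset.univ.filter fun a : A => InV a ∧ a ≠ 1).card = 3 := by decide +kernel

/-- The elements `1`, `t₀` and the class of `v` under the normaliser. -/
def Gen (v a : C₀) : Prop := a = 1 ∨ a = t₀ ∨ Half v a

instance decGen (v a : C₀) : Decidable (Gen v a) :=
  inferInstanceAs (Decidable (a = 1 ∨ a = t₀ ∨ Half v a))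

theorem gen_one : ∀ c : C₀, c ∈ S₀ → ∃ a b : C₀, Gen (1, v₄) a ∧ Gen (1, v₄) b ∧ a * b = c := by
  decide +kernel

theorem gen_tu : ∀ c : C₀, c ∈ S₀ → ∃ a b : C₀, Gen (tu, v₄) a ∧ Gen (tu, v₄) b ∧ a * b = c := by
  decide +kernel

theorem tu_cube : ∀ z : Multiplicative (ZMod 2), z * z * z = 1 → z = 1 := by decide +kernel

theorem mem_S₀ {c : C₀} : c ∈ S₀ ↔ InV c.2 := Iff.rfl

theorem inr_mem_S₀ {a : A} (ha : InV a) : ((1 : Multiplicative (ZMod 2)), a) ∈ S₀ := ha

end Cfsg.Agent.Coprime.J1.Closure
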