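import Cfsg.Agent.Coprime.J1.Closure.Component
import Cfsg.Agent.H52.Commuting.Main

/-!
# The group generated by the class: `R` meets it in odd order
-/

set_option autoImplicit false
set_option linter.unusedSectionVars false
set_option linter.style.haveILetI false

namespace Cfsg.Agent.Coprime.J1.Closure.Hyp

open Subgroup
open scoped commutatorElement

universe u

variable {G : Type u} [Group G] [Finite G] (X : Hyp G)

/-- The group generated by the class. -/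
def M : Subgroup G := closure X.D

theorem D₀_le_M : X.D₀ ⊆ X.M := fun _ hx => subset_closure (X.D₀_subset hx)

theorem K₀_le_M : X.K₀ ≤ X.M := (closure_le _).2 X.D₀_le_M

theorem M_normal : X.M.Normal := by
  refine ⟨fun x hx g => ?_⟩
  have hle : X.M.map (MulAut.conj g).toMonoidHom ≤ X.M := by
    rw [M, MonoidHom.map_closure, closure_le]
    rintro _ ⟨y, hy, rfl⟩
    exact subset_closure (X.conj_mem_D hy g)
  exact hle ⟨x, hx, rfl⟩

theorem perfect_M : commutator X.M = ⊤ := by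
  haveI := X.M_normal
  have hle : X.M ≤ ⁅X.M, X.M⁆ := by
    refine (closure_le _).2 fun x ⟨g, hg⟩ => ?_
    rw [hg]
    exact (inferInstance : (⁅X.M, X.M⁆).Normal).conj_mem _
      (X.t_mem_commutator (X.W_le_K₀.trans X.K₀_le_M) (X.K₀_le_M X.σ_mem_K₀)) g
  refine map_injective X.M.subtype_injective ?_
  rw [commutator_def, map_commutator, ← MonoidHom.range_eq_map, range_subtype]
  exact le_antisymm (commutator_le.2 fun a ha b hb =>
    mul_mem (mul_mem (mul_mem ha hb) (inv_mem ha)) (inv_mem hb)) hle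

theorem oddCore_centralizes {o : G} (ho : o ∈ Cfsg.oddCore G) {d : G} (hd : d ∈ X.D) :
    o * d = d * o := by
  haveI hO : (Cfsg.oddCore G).Normal := inferInstance
  -- fixed points of `t` centralise `W`
  have hW : ∀ o ∈ Cfsg.oddCore G, o * X.t = X.t * o → ∀ w ∈ X.W, o * w = w * o := by
    intro o ho hot w hw
    have h1 : o * w * o⁻¹ * w⁻¹ ∈ Cfsg.oddCore G := by
      rw [show o * w * o⁻¹ * w⁻¹ = o * (w * o⁻¹ * w⁻¹) by group]
      exact mul_mem ho (hO.conj_mem _ (inv_mem ho) w)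
    obtain ⟨c, hc⟩ := X.exists_emb (mul_mem (conj_mem_wcl hot hw) (inv_mem hw))
    have hodd : Odd (Nat.card ((Cfsg.oddCore G).comap X.emb)) :=
      (Cores.odd_card_oddCore (G := G)).of_dvd_nat
        ((card_map_of_injective (K := (Cfsg.oddCore G).comap X.emb) X.emb_inj) ▸
          card_dvd_of_le (map_comap_le _ _))
    have hc1 : c = 1 :=
      mem_bot.1 ((eq_bot_of_odd _ hodd).le (show c ∈ (Cfsg.oddCore G).comap X.emb from
        mem_comap.2 (hc ▸ h1)))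
    rw [hc1, map_one] at hc
    exact mul_inv_eq_iff_eq_mul.1 (mul_inv_eq_one.1 hc.symm)
  have ht : ∀ o ∈ Cfsg.oddCore G, o * X.t = X.t * o := by
    let V : Subgroup G := (S₀ ⊓ (MonoidHom.fst _ A).ker).map X.emb
    have hV : ∀ v ∈ V, ∃ c, c ∈ S₀ ∧ X.emb c = v := by
      rintro _ ⟨c, hc, rfl⟩; exact ⟨c, hc.1, rfl⟩
    haveI : IsMulCommutative V := ⟨⟨fun a b => Subtype.ext (by
      obtain ⟨c, hc, hca⟩ := hV a a.2
      obtain ⟨d, hd, hdb⟩ := hV b b.2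
      exact X.E_comm (hca ▸ X.emb_mem_E.2 hc) (hdb ▸ X.emb_mem_E.2 hd))⟩⟩
    have hVc : Nat.card V = 4 := by
      rw [card_map_of_injective X.emb_inj, ← card_four, ← Nat.card_eq_fintype_card]
      exact Nat.card_congr (Equiv.subtypeEquivRight fun c : C₀ => Iff.rfl)
    have hnc : ¬ IsCyclic V := by
      intro hcy
      obtain ⟨g, hg⟩ := IsCyclic.exists_ofOrder_eq_natCard (α := V)
      have h2 : g ^ 2 = 1 := Subtype.ext (by
        obtain ⟨c, hc, hcg⟩ := hV g g.2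
        rw [pow_two]
        show (g : G) * g = 1
        rw [← hcg, ← map_mul, S₀_sq c hc, map_one])
      have := Nat.le_of_dvd two_pos (orderOf_dvd_of_pow_eq_one h2)
      omega
    have hle : Cfsg.oddCore G ≤ centralizer ({X.t} : Set G) := by
      refine le_of_centralizer_noncyclic_le hnc (le_normalizer_of_normal (K := V)) ?_ fun a ha ha1 => ?_
      · rw [hVc, show 4 = 2 ^ 2 from rfl]
        exact (Nat.coprime_two_left.2 Cores.odd_card_oddCore).pow_left 2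
      · rintro y ⟨hyO, hya⟩
        obtain ⟨c, hc, rfl⟩ := hV a ha
        obtain ⟨n, hn, hne⟩ := X.exists_conj_t (X.emb_mem_E.2 hc) ha1
        have hy := mem_centralizer_singleton_iff.1 hya
        have hy' : n⁻¹ * y * n⁻¹⁻¹ * X.t = X.t * (n⁻¹ * y * n⁻¹⁻¹) := by
          calc n⁻¹ * y * n⁻¹⁻¹ * X.t = n⁻¹ * (y * (n * X.t * n⁻¹)) * n := by group
            _ = n⁻¹ * (n * X.t * n⁻¹ * y) * n := by rw [hne, hy]
            _ = X.t * (n⁻¹ * y * n⁻¹⁻¹) := by group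
        have hnt : n⁻¹ * X.t * n⁻¹⁻¹ ∈ X.W := X.E_le_W
          ((mem_normalizer_iff.1 (inv_mem hn) _).1 X.t_mem_E)
        have h := hW _ (hO.conj_mem y hyO n⁻¹) hy' _ hnt
        refine mem_centralizer_singleton_iff.2 ?_
        calc y * X.t = n * (n⁻¹ * y * n⁻¹⁻¹ * (n⁻¹ * X.t * n⁻¹⁻¹)) * n⁻¹ := by group
          _ = n * (n⁻¹ * X.t * n⁻¹⁻¹ * (n⁻¹ * y * n⁻¹⁻¹)) * n⁻¹ := by rw [h]
          _ = X.t * y := by group
    exact fun o ho => mem_centralizer_singleton_iff.1 (hle ho)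
  obtain ⟨g, rfl⟩ := hd
  have h := ht _ (hO.conj_mem o ho g⁻¹)
  calc o * (g * X.t * g⁻¹) = g * (g⁻¹ * o * g⁻¹⁻¹ * X.t) * g⁻¹ := by group
    _ = g * (X.t * (g⁻¹ * o * g⁻¹⁻¹)) * g⁻¹ := by rw [h]
    _ = g * X.t * g⁻¹ * o := by group

/-- `S = E × (S ∩ R)`. -/
theorem split_S {s : G} (hs : s ∈ (X.S : Subgroup G)) : ∃ e ∈ X.E, ∃ r ∈ X.R,
    r ∈ (X.S : Subgroup G) ∧ s = e * r := by
  obtain ⟨w, hw, r, hr, rfl⟩ := X.split_C (X.htc s hs)
  obtain ⟨c, rfl⟩ := X.exists_emb hw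
  have hrE := (X.mem_R.1 hr).1
  have hn : Nrm c := by
    intro d hd
    have h := (mem_normalizer_iff.1 (X.S_conj_E hs) _).1 (X.emb_mem_E.2 hd)
    rw [show X.emb c * r * X.emb d * (X.emb c * r)⁻¹ = X.emb c * (r * X.emb d * r⁻¹) * (X.emb c)⁻¹ by
      group, mul_inv_eq_iff_eq_mul.2 (hrE _ (X.emb_mem_E.2 hd)), conj_emb] at h
    exact X.emb_mem_E.1 h
  obtain ⟨j, hj⟩ := X.S.2 ⟨_, hs⟩
  have hj' : (X.emb c * r) ^ 2 ^ j = 1 := congrArg Subtype.val hj
  rw [(show Commute (X.emb c) r from (X.R_comm_W hr hw).symm).mul_pow] at hj'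
  have hcj : c ^ 2 ^ j = 1 := X.emb_inj (by
    rw [map_pow, map_one]
    refine X.R_inf_W ?_ (pow_mem hw _)
    rw [eq_inv_of_mul_eq_one_left hj']
    exact inv_mem (pow_mem hr _))
  have h8 : c ^ 8 = 1 := by
    refine orderOf_dvd_iff_pow_eq_one.1 ?_
    obtain ⟨i, -, hi⟩ := (Nat.dvd_prime_pow Nat.prime_two).1 (orderOf_dvd_of_pow_eq_one hcj)
    have h120 : orderOf c ∣ 120 := card_C₀ ▸ orderOf_dvd_natCard c
    rw [hi] at h120 ⊢
    have hi3 : i ≤ 3 := by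
      by_contra hlt
      exact absurd ((pow_dvd_pow 2 (Nat.not_le.1 hlt)).trans h120) (by norm_num)
    exact (pow_dvd_pow 2 hi3).trans (by norm_num)
  have hcE : X.emb c ∈ X.E := X.emb_mem_E.2 (two_normalize c h8 hn)
  refine ⟨_, hcE, r, hr, ?_, rfl⟩
  have := (X.S : Subgroup G).mul_mem ((X.S : Subgroup G).inv_mem (X.E_le_S hcE)) hs
  rwa [inv_mul_cancel_left] at this

theorem T₀_closed : Cfsg.IsStronglyClosed ((X.S : Subgroup G) ⊓ X.R) (X.S : Subgroup G) := by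
  refine ⟨inf_le_left, fun x hx g hg => ?_⟩
  obtain ⟨n, hn, h⟩ := X.fusion (A := {x}) (Set.singleton_subset_iff.2 hx.1)
    (g := g) (fun a ha => by rw [Set.mem_singleton_iff.1 ha]; exact hg)
  rw [h x rfl] at hg ⊢
  exact ⟨hg, X.R_conj hn hx.2⟩

theorem T₀_comm_M {y : G} (hyS : y ∈ (X.S : Subgroup G)) (hyR : y ∈ X.R) {m : G} (hm : m ∈ X.M) :
    y * m = m * y := by
  have hle : X.M ≤ centralizer ({y} : Set G) := by
    refine (closure_le _).2 fun d hd => mem_centralizer_singleton_iff.2 ?_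
    have hp : H52.Commuting.Pair X.S X.E ((X.S : Subgroup G) ⊓ X.R) :=
      ⟨X.stronglyClosed, X.T₀_closed, fun a ha b hb => ((X.mem_R.1 hb.2).1 a ha).symm,
        eq_bot_iff.2 fun x hx => mem_bot.2 (X.R_inf_E hx.2.2 hx.1)⟩
    obtain ⟨g, hg⟩ := hd
    have hdc : d ∈ H52.Commuting.Conjs X.E := ⟨g, X.t, X.t_mem_E, hg.symm⟩
    have hdD : d ∈ X.D := ⟨g, hg⟩
    have hz := H52.Commuting.commutator_mem_oddCore hp hdc
      (H52.Commuting.mem_conjs_self (T := (X.S : Subgroup G) ⊓ X.R) (t := y) ⟨hyS, hyR⟩)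
    have hd2 := X.sq_of_mem_D hdD
    have hdi : d⁻¹ = d := inv_eq_of_mul_eq_one_left hd2
    have hzd := X.oddCore_centralizes hz hdD
    have hz2 : ⁅d, y⁆ * ⁅d, y⁆ = 1 := by
      calc ⁅d, y⁆ * ⁅d, y⁆ = ⁅d, y⁆ * (d * d) * ⁅d, y⁆ := by rw [hd2, mul_one]
        _ = ⁅d, y⁆ * d * (d * ⁅d, y⁆) := by group
        _ = d * ⁅d, y⁆ * (d * ⁅d, y⁆) := by rw [hzd]
        _ = d * d * y * d⁻¹ * y⁻¹ * (d * d) * y * d⁻¹ * y⁻¹ := by rw [commutatorElement_def]; group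
        _ = y * (d⁻¹ * d⁻¹) * y⁻¹ := by rw [hd2]; group
        _ = 1 := by rw [hdi, hd2]; group
    have hz1 : ⁅d, y⁆ = 1 := by
      by_contra h1
      have h2 : orderOf ⁅d, y⁆ = 2 := orderOf_eq_prime (by rw [sq]; exact hz2) h1
      have := Subgroup.orderOf_dvd_natCard (Cfsg.oddCore G) hz
      rw [h2] at this
      exact (Nat.not_even_iff_odd.2 Cores.odd_card_oddCore) (even_iff_two_dvd.2 this)
    exact commutatorElement_eq_one_iff_mul_comm.1 hz1
  exact (mem_centralizer_singleton_iff.1 (hle hm)).symm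

theorem E_le_M : X.E ≤ X.M := X.E_le_W.trans (X.W_le_K₀.trans X.K₀_le_M)

theorem S_inf_M_le : (X.S : Subgroup G) ⊓ X.M ≤ X.E := by
  haveI : Fact (Nat.Prime 2) := ⟨Nat.prime_two⟩
  haveI := X.M_normal
  obtain ⟨P, hP⟩ := (X.S.2.comap_subtype (K := X.M)).exists_le_sylow
  obtain ⟨x, hx⟩ := H39.exists_conj_le_sylow (P.2.map X.M.subtype) X.S
  have hPU : ((X.S : Subgroup G).subgroupOf X.M) = (P : Subgroup X.M) := by
    refine eq_of_le_of_card_ge hP (Nat.card_le_card_of_injective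
      (fun p => (⟨⟨x * ((p : X.M) : G) * x⁻¹, X.M_normal.conj_mem _ (p : X.M).2 x⟩,
        hx _ ⟨p, p.2, rfl⟩⟩ : (X.S : Subgroup G).subgroupOf X.M)) fun a b h => ?_)
    exact Subtype.ext (Subtype.ext (mul_left_cancel (mul_right_cancel
      (congrArg (fun u : (X.S : Subgroup G).subgroupOf X.M => ((u : X.M) : G)) h))))
  -- elements of the Sylow subgroup split
  have hsplit : ∀ a : X.M, a ∈ (P : Subgroup X.M) → ∃ e ∈ X.E, ∃ r ∈ X.R,
      r ∈ (X.S : Subgroup G) ∧ r ∈ X.M ∧ (a : G) = e * r := by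
    intro a ha
    have haS : (a : G) ∈ (X.S : Subgroup G) := hPU.ge ha
    obtain ⟨e, he, r, hr, hrS, har⟩ := X.split_S haS
    refine ⟨e, he, r, hr, hrS, ?_, har⟩
    have := mul_mem (inv_mem (X.E_le_M he)) a.2
    rwa [har, inv_mul_cancel_left] at this
  rintro s ⟨hsS, hsM⟩
  obtain ⟨e, he, r, hr, hrS, hrM, hsr⟩ := hsplit ⟨s, hsM⟩ (hPU.le hsS)
  have hr1 : (⟨r, hrM⟩ : X.M) = 1 := by
    refine ByOrder.eq_one_of_fixed X.perfect_M P (fun a ha b hb => Subtype.ext ?_) (hPU.le hrS)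
      (fun n _ => Subtype.ext (X.T₀_comm_M hrS hr n.2).symm)
    obtain ⟨e₁, he₁, r₁, hr₁, hr₁S, hr₁M, h₁⟩ := hsplit a ha
    obtain ⟨e₂, he₂, r₂, hr₂, hr₂S, hr₂M, h₂⟩ := hsplit b hb
    show (a : G) * b = b * a
    rw [h₁, h₂]
    have c₁ : Commute e₁ r₂ := (X.T₀_comm_M hr₂S hr₂ (X.E_le_M he₁)).symm
    have c₂ : Commute r₁ e₂ := X.T₀_comm_M hr₁S hr₁ (X.E_le_M he₂)
    have c₃ : Commute r₁ r₂ := X.T₀_comm_M hr₁S hr₁ hr₂M
    have c₄ : Commute e₁ e₂ := X.E_comm he₁ he₂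
    exact ((c₄.mul_right c₁).mul_left (c₂.mul_right c₃)).eq
  rw [show s = e * r from hsr, show r = 1 from congrArg Subtype.val hr1, mul_one]
  exact he

/-- Involutions of `M` fusing into `S`. -/
theorem mem_E_of_invol {x h : G} (hx : x ∈ X.M) (hS : h * x * h⁻¹ ∈ (X.S : Subgroup G)) :
    h * x * h⁻¹ ∈ X.E := X.S_inf_M_le ⟨hS, X.M_normal.conj_mem x hx h⟩

theorem invol_H_M {x : G} (hx : orderOf x = 2) (hH : x ∈ X.H) (hM : x ∈ X.M) : x ∈ X.D₀ := by
  haveI : Fact (Nat.Prime 2) := ⟨Nat.prime_two⟩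
  have hz : IsPGroup 2 (zpowers x) := IsPGroup.of_card (n := 1) (by rw [Nat.card_zpowers, hx, pow_one])
  obtain ⟨h, hh, hS⟩ := H39.exists_conj_mem_le_sylow hz (zpowers_le.2 hH) X.S
    (fun s hs => X.C_le_H (X.htc s hs))
  have hE := X.mem_E_of_invol hM (hS x (mem_zpowers x))
  obtain ⟨c, hc, hce⟩ := hE
  have hc1 : c ≠ 1 := fun h1 => by
    rw [h1, map_one, eq_comm, conj_eq_one_iff] at hce
    rw [hce, orderOf_one] at hx
    omega
  have := X.D₀_conj (inv_mem hh) (hce ▸ X.mem_D₀_of_W (S₀_sq c hc) hc1)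
  rwa [show h⁻¹ * (h * x * h⁻¹) * h⁻¹⁻¹ = x by group] at this

theorem odd_R_inf_M : Odd (Nat.card (X.R ⊓ X.M : Subgroup G)) := by
  haveI : Fact (Nat.Prime 2) := ⟨Nat.prime_two⟩
  refine Nat.not_even_iff_odd.1 fun hev => ?_
  obtain ⟨x, hx⟩ := exists_prime_orderOf_dvd_card' (G := (X.R ⊓ X.M : Subgroup G)) 2
    (even_iff_two_dvd.1 hev)
  have hx2 : orderOf (x : G) = 2 := (Subgroup.orderOf_coe x).trans hx
  obtain ⟨hR, hM⟩ := x.2
  obtain ⟨k, hk, hkt⟩ := X.exists_K₀_conj (X.invol_H_M hx2 (X.R_le_H hR) hM)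
  have h1 : (x : G) = 1 := X.K₀_inf_R
    (hkt ▸ mul_mem (mul_mem hk (X.W_le_K₀ (mem_wcl_self _))) (inv_mem hk)) hR
  rw [h1, orderOf_one] at hx2
  omega

end Cfsg.Agent.Coprime.J1.Closure.Hyp
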