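import Cfsg.Agent.Coprime.J1.Closure.Hyp
import Cfsg.Agent.S2119

/-!
# The action of `N(E)` on the seven involutions of `E`
-/

set_option autoImplicit false
set_option linter.unusedSectionVars false
set_option linter.style.haveILetI false

namespace Cfsg.Agent.Coprime.J1.Closure

open Subgroup
open scoped commutatorElement

/-- A permutation normalising a fixed-point-free cyclic group of prime order `p` of permutations of `p`
points and fixing two points is trivial. -/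
theorem eq_one_of_two_fixed {α : Type*} [Finite α] {p : ℕ} [hp : Fact p.Prime] {π u : Equiv.Perm α}
    (htr : ∀ a b : α, ∃ i : ℕ, (π ^ i) a = b) (hπ : π ^ p = 1) {k : ℕ} (hk : u * π * u⁻¹ = π ^ k)
    {a b : α} (hab : a ≠ b) (ha : u a = a) (hb : u b = b) : u = 1 := by
  have hup : ∀ i : ℕ, u * π ^ i = π ^ (k * i) * u := by
    intro i
    rw [pow_mul, ← hk, conj_pow]
    group
  obtain ⟨i, hi⟩ := htr a b
  have hki : (π ^ (k * i)) a = b := by
    have := DFunLike.congr_fun (hup i) a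
    rw [Equiv.Perm.mul_apply, Equiv.Perm.mul_apply, hi, ha, hb] at this
    exact this.symm
  have hip : ¬ p ∣ i := by
    rintro ⟨j, rfl⟩
    rw [pow_mul, hπ, one_pow, Equiv.Perm.one_apply] at hi
    exact hab hi
  -- the orbit map is injective modulo `p`
  have hfix : ∀ m : ℕ, (π ^ m) a = a → π ^ m = 1 := by
    intro m hm
    ext c
    obtain ⟨j, rfl⟩ := htr a c
    rw [← Equiv.Perm.mul_apply, ← pow_add, add_comm, pow_add, Equiv.Perm.mul_apply, hm,
      Equiv.Perm.one_apply]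
  have hπ1 : π ≠ 1 := fun h => hab (by rw [h, one_pow, Equiv.Perm.one_apply] at hi; exact hi)
  have ho : orderOf π = p := orderOf_eq_prime hπ hπ1
  have heq : π ^ (k * i) = π ^ i := by
    ext c
    obtain ⟨j, rfl⟩ := htr a c
    rw [← Equiv.Perm.mul_apply, ← pow_add, add_comm, pow_add, Equiv.Perm.mul_apply, hki,
      ← Equiv.Perm.mul_apply, ← pow_add, add_comm, pow_add, Equiv.Perm.mul_apply, hi]
  have hcomm : u * π * u⁻¹ = π := by
    rw [hk]
    have hmod : k * i ≡ 1 * i [MOD p] := by rw [one_mul, ← ho]; exact pow_eq_pow_iff_modEq.1 heq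
    have hk1 : k ≡ 1 [MOD p] :=
      Nat.ModEq.cancel_right_of_coprime ((hp.out.coprime_iff_not_dvd).2 hip) hmod
    calc π ^ k = π ^ 1 := pow_eq_pow_iff_modEq.2 (ho ▸ hk1)
      _ = π := pow_one π
  ext c
  obtain ⟨j, rfl⟩ := htr a c
  have hc : Commute u π := mul_inv_eq_iff_eq_mul.1 hcomm
  rw [← Equiv.Perm.mul_apply, (hc.pow_right j).eq, Equiv.Perm.mul_apply, ha, Equiv.Perm.one_apply]

namespace Hyp

variable {G : Type*} [Group G] (X : Hyp G)

/-- The embedded alternating group. -/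
def el : A →* G := X.emb.comp (MonoidHom.inr _ A)

theorem el_apply (a : A) : X.el a = X.emb (1, a) := rfl

theorem el_inj : Function.Injective X.el := fun _ _ h => congrArg Prod.snd (X.emb_inj h)

theorem el_comm_t (a : A) : X.el a * X.t = X.t * X.el a := X.comm_t (X.emb_mem_W _)

theorem emb_split (c : C₀) : X.emb c = X.el c.2 ∨ X.emb c = X.t * X.el c.2 := by
  rcases tu_cases c.1 with h | h
  · exact Or.inl (congrArg X.emb (Prod.ext h rfl))
  · refine Or.inr ?_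
    rw [← X.emb_t₀, el_apply, ← map_mul]
    exact congrArg X.emb (Prod.ext (h.trans (mul_one _).symm) (one_mul _).symm)

theorem el_mem_E {a : A} (ha : InV a) : X.el a ∈ X.E := X.emb_mem_E.2 (inr_mem_S₀ ha)

theorem exists_perm {c : G} (hc : c * X.t = X.t * c) :
    ∃ π : Equiv.Perm (Fin 5), ∀ a : A, c * X.el a * c⁻¹ = X.el (MulAut.conjNormal π a) := by
  have hmem : ∀ x : C₀, c * X.emb x * c⁻¹ ∈ X.emb.range := fun x =>
    X.emb_range.ge (conj_mem_wcl hc (X.emb_mem_W x))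
  let h : C₀ →* C₀ := (MonoidHom.ofInjective X.emb_inj).symm.toMonoidHom.comp
    (((MulAut.conj c).toMonoidHom.comp X.emb).codRestrict _ hmem)
  have hh : ∀ x, X.emb (h x) = c * X.emb x * c⁻¹ := by
    intro x
    exact MonoidHom.apply_ofInjective_symm X.emb_inj _
  let f1 : A →* Multiplicative (ZMod 2) :=
    (MonoidHom.fst _ A).comp (h.comp (MonoidHom.inr _ A))
  have hf1 : ∀ a, f1 a = 1 := by
    intro a
    obtain ⟨x, y, hx, hy, rfl⟩ := prod_three a
    rw [map_mul, tu_cube (f1 x) (by rw [← map_mul, ← map_mul, hx, map_one]),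
      tu_cube (f1 y) (by rw [← map_mul, ← map_mul, hy, map_one]), one_mul]
  let f2 : A →* A := (MonoidHom.snd _ A).comp (h.comp (MonoidHom.inr _ A))
  have hf : ∀ a, c * X.el a * c⁻¹ = X.el (f2 a) := by
    intro a
    rw [el_apply, ← hh, el_apply]
    exact congrArg X.emb (Prod.ext (hf1 a) rfl)
  have hinj : Function.Injective f2 := by
    intro a b hab
    refine X.el_inj (mul_left_cancel (a := c) (mul_right_cancel (b := c⁻¹) ?_))
    show c * X.el a * c⁻¹ = c * X.el b * c⁻¹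
    rw [hf, hf, hab]
  obtain ⟨π, hπ⟩ := (S2119.result 5 (by norm_num) (by norm_num)).2
    (MulEquiv.ofBijective f2 (Finite.injective_iff_bijective.1 hinj))
  exact ⟨π, fun a => by rw [hf, hπ]; rfl⟩

/-- The centraliser of the alternating group inside `C(t)`. -/
def K : Subgroup G := centralizer (X.el.range : Set G) ⊓ centralizer ({X.t} : Set G)

theorem mem_K {k : G} : k ∈ X.K ↔ (∀ a, k * X.el a = X.el a * k) ∧ k * X.t = X.t * k := by
  rw [K, mem_inf, mem_centralizer_iff, mem_centralizer_singleton_iff]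
  refine and_congr_left fun _ => ⟨fun h a => (h _ ⟨a, rfl⟩).symm, fun h x hx => ?_⟩
  obtain ⟨a, rfl⟩ := hx
  exact (h a).symm

theorem comm_K_W {k w : G} (hk : k ∈ X.K) (hw : w ∈ X.W) : k * w = w * k := by
  obtain ⟨hL, ht⟩ := X.mem_K.1 hk
  obtain ⟨c, rfl⟩ := X.exists_emb hw
  rcases X.emb_split c with h | h
  · rw [h, hL]
  · rw [h, ← mul_assoc, ht, mul_assoc, hL, mul_assoc]

theorem conjNormal_el (a b : A) :
    MulAut.conjNormal (a : Equiv.Perm (Fin 5)) b = a * b * a⁻¹ := Subtype.ext rfl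

/-- The centraliser of `E` is `V × K`. -/
theorem split_CE {c : G} (hc : ∀ x ∈ X.E, c * x = x * c) :
    ∃ v : A, InV v ∧ ∃ k ∈ X.K, c = X.el v * k := by
  have hct : c * X.t = X.t * c := hc _ X.t_mem_E
  obtain ⟨π, hπ⟩ := X.exists_perm hct
  obtain ⟨v, hv, hπv⟩ := perm_centralize π fun v hv => by
    have h := hπ v
    rw [hc _ (X.el_mem_E hv), mul_inv_cancel_right] at h
    have h' := congrArg Subtype.val (X.el_inj h)
    rw [MulAut.conjNormal_apply] at h'
    exact mul_inv_eq_iff_eq_mul.1 h'.symm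
  refine ⟨v, hv, (X.el v)⁻¹ * c, X.mem_K.2 ⟨fun a => ?_, ?_⟩, by group⟩
  · have h := hπ a
    rw [hπv, conjNormal_el, map_mul, map_mul, map_inv] at h
    calc (X.el v)⁻¹ * c * X.el a = (X.el v)⁻¹ * (c * X.el a * c⁻¹) * c := by group
      _ = (X.el v)⁻¹ * (X.el v * X.el a * (X.el v)⁻¹) * c := by rw [h]
      _ = X.el a * ((X.el v)⁻¹ * c) := by group
  · calc (X.el v)⁻¹ * c * X.t = (X.el v)⁻¹ * X.t * c := by rw [mul_assoc, hct, mul_assoc]
      _ = X.t * (X.el v)⁻¹ * c := by rw [(Commute.inv_left (X.el_comm_t v)).eq]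
      _ = X.t * ((X.el v)⁻¹ * c) := mul_assoc _ _ _

/-- The elements of `N(E)` inducing the identity on `C(E)/E`. -/
def N₁ : Subgroup G where
  carrier := {n | n ∈ normalizer (X.E : Set G) ∧
    ∀ c, (∀ x ∈ X.E, c * x = x * c) → n * c * n⁻¹ * c⁻¹ ∈ X.E}
  one_mem' := ⟨one_mem _, fun c _ => by simp⟩
  mul_mem' := fun {n m} hn hm => ⟨mul_mem hn.1 hm.1, fun c hc => by
    rw [show n * m * c * (n * m)⁻¹ * c⁻¹ = n * (m * c * m⁻¹ * c⁻¹) * n⁻¹ * (n * c * n⁻¹ * c⁻¹) by group]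
    exact mul_mem ((mem_normalizer_iff.1 hn.1 _).1 (hm.2 c hc)) (hn.2 c hc)⟩
  inv_mem' := fun {n} hn => ⟨inv_mem hn.1, fun c hc => by
    have h := (mem_normalizer_iff.1 (inv_mem hn.1) _).1 (inv_mem (hn.2 c hc))
    rwa [show n⁻¹ * (n * c * n⁻¹ * c⁻¹)⁻¹ * n⁻¹⁻¹ = n⁻¹ * c * n⁻¹⁻¹ * c⁻¹ by group] at h⟩

theorem conj_comm_E {n c : G} (hn : n ∈ normalizer (X.E : Set G)) (hc : ∀ x ∈ X.E, c * x = x * c) :
    ∀ x ∈ X.E, n * c * n⁻¹ * x = x * (n * c * n⁻¹) := by
  intro x hx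
  have h := hc _ ((mem_normalizer_iff.1 (inv_mem hn) x).1 hx)
  calc n * c * n⁻¹ * x = n * (c * (n⁻¹ * x * n⁻¹⁻¹)) * n⁻¹ := by group
    _ = n * (n⁻¹ * x * n⁻¹⁻¹ * c) * n⁻¹ := by rw [h]
    _ = x * (n * c * n⁻¹) := by group

theorem conj_mem_N₁ {n m : G} (hn : n ∈ normalizer (X.E : Set G)) (hm : m ∈ X.N₁) :
    n * m * n⁻¹ ∈ X.N₁ := by
  refine ⟨mul_mem (mul_mem hn hm.1) (inv_mem hn), fun c hc => ?_⟩
  have h := (mem_normalizer_iff.1 hn _).1 (hm.2 _ (X.conj_comm_E (inv_mem hn) hc))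
  rw [inv_inv, show n * (m * (n⁻¹ * c * n) * m⁻¹ * (n⁻¹ * c * n)⁻¹) * n⁻¹ =
    n * m * n⁻¹ * c * (n * m * n⁻¹)⁻¹ * c⁻¹ by group] at h
  exact h

theorem tau_mem_N₁ : X.el x₃ ∈ X.N₁ := by
  refine ⟨X.emb_normalizes x₃_nrm, fun c hc => ?_⟩
  obtain ⟨v, hv, k, hk, rfl⟩ := X.split_CE hc
  have hkt : k * X.el x₃ = X.el x₃ * k := (X.mem_K.1 hk).1 x₃
  have hmem := mul_mem ((mem_normalizer_iff.1 (X.emb_normalizes x₃_nrm) _).1 (X.el_mem_E hv))
    (inv_mem (X.el_mem_E hv))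
  have hk' : k * (X.el x₃)⁻¹ * k⁻¹ = (X.el x₃)⁻¹ :=
    mul_inv_eq_iff_eq_mul.2 (Commute.inv_right hkt).eq
  show X.el x₃ * (X.el v * k) * (X.el x₃)⁻¹ * (X.el v * k)⁻¹ ∈ X.E
  rw [show X.el x₃ * (X.el v * k) * (X.el x₃)⁻¹ * (X.el v * k)⁻¹ =
    X.el x₃ * X.el v * (k * (X.el x₃)⁻¹ * k⁻¹) * (X.el v)⁻¹ by group, hk']
  exact hmem

/-- The seven involutions. -/
abbrev Pt : Type _ := {x : G // x ∈ X.E ∧ x ≠ 1}

theorem card_Pt : Nat.card X.Pt = 7 := by
  classical
  rw [← card_S₀_ne, ← Nat.card_eq_finsetCard]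
  refine (Nat.card_congr (Equiv.ofBijective
    (fun c : {c // c ∈ Finset.univ.filter fun c : C₀ => c ∈ S₀ ∧ c ≠ 1} => (⟨X.emb c,
      X.emb_mem_E.2 (Finset.mem_filter.1 c.2).2.1,
      fun h => (Finset.mem_filter.1 c.2).2.2 (X.emb_inj (h.trans (map_one _).symm))⟩ : X.Pt))
    ⟨fun a b h => Subtype.ext (X.emb_inj (congrArg Subtype.val h)), ?_⟩)).symm
  rintro ⟨_, ⟨c, hc, rfl⟩, h1⟩
  exact ⟨⟨c, Finset.mem_filter.2 ⟨Finset.mem_univ _, hc, fun h => h1 (h ▸ map_one X.emb)⟩⟩, rfl⟩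

theorem conj_mem_Pt {n : G} (hn : n ∈ normalizer (X.E : Set G)) (x : X.Pt) :
    n * x * n⁻¹ ∈ X.E ∧ n * x * n⁻¹ ≠ 1 := by
  refine ⟨(mem_normalizer_iff.1 hn x).1 x.2.1, fun h => x.2.2 ?_⟩
  have : (x : G) = n⁻¹ * (n * x * n⁻¹) * n := by group
  rw [this, h]; group

/-- The action on the seven involutions. -/
def act : ↥(normalizer (X.E : Set G)) →* Equiv.Perm X.Pt where
  toFun n :=
    { toFun := fun x => ⟨(n : G) * x * (n : G)⁻¹, X.conj_mem_Pt n.2 x⟩
      invFun := fun x => ⟨(n : G)⁻¹ * x * (n : G)⁻¹⁻¹, X.conj_mem_Pt (inv_mem n.2) x⟩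
      left_inv := fun x => Subtype.ext (show (n : G)⁻¹ * (n * x * (n : G)⁻¹) * (n : G)⁻¹⁻¹ = x by group)
      right_inv := fun x => Subtype.ext (show (n : G) * ((n : G)⁻¹ * x * (n : G)⁻¹⁻¹) * (n : G)⁻¹ = x by group) }
  map_one' := Equiv.ext fun x => Subtype.ext (show (1 : G) * x * (1 : G)⁻¹ = x by group)
  map_mul' n m := Equiv.ext fun x => Subtype.ext
    (show ((n : G) * m) * x * ((n : G) * m)⁻¹ = (n : G) * (m * x * (m : G)⁻¹) * (n : G)⁻¹ by group)

theorem act_val (n : ↥(normalizer (X.E : Set G))) (x : X.Pt) :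
    ((X.act n x : X.Pt) : G) = (n : G) * x * (n : G)⁻¹ := rfl

theorem act_eq_one {n : ↥(normalizer (X.E : Set G))} :
    X.act n = 1 ↔ ∀ x ∈ X.E, (n : G) * x = x * n := by
  constructor
  · intro h x hx
    rcases eq_or_ne x 1 with rfl | h1
    · simp
    · exact mul_inv_eq_iff_eq_mul.1 (congrArg (fun p : Equiv.Perm X.Pt => (p ⟨x, hx, h1⟩ : G)) h)
  · exact fun h => Equiv.ext fun x => Subtype.ext (mul_inv_eq_iff_eq_mul.2 (h x x.2.1))

/-- The point `t`. -/
def pt : X.Pt := ⟨X.t, X.t_mem_E, X.ne_one_of_mem_D X.t_mem_D⟩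

variable [Finite G]

theorem act_transitive (x : X.Pt) : ∃ n, X.act n X.pt = x := by
  obtain ⟨n, hn, h⟩ := X.exists_conj_t x.2.1 x.2.2
  exact ⟨⟨n, hn⟩, Subtype.ext h⟩

theorem card_stabilizer_le : Nat.card (MulAction.stabilizer X.act.range X.pt) ≤ 6 := by
  classical
  let Q := {a : A // InV a ∧ a ≠ 1}
  have hQ : Fintype.card Q = 3 := by rw [Fintype.card_subtype]; exact card_V_ne
  have key : ∀ γ : MulAction.stabilizer X.act.range X.pt, ∀ a : Q, ∃ b : Q,
      (((γ : X.act.range) : Equiv.Perm X.Pt)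
        ⟨X.el a.1, X.el_mem_E a.2.1, fun h => a.2.2 (X.el_inj (h.trans (map_one _).symm))⟩ : G) =
        X.el b.1 := by
    rintro ⟨⟨_, n, rfl⟩, hn⟩ a
    have hnt : (n : G) * X.t = X.t * n :=
      mul_inv_eq_iff_eq_mul.1 (congrArg Subtype.val (MulAction.mem_stabilizer_iff.1 hn) :)
    obtain ⟨π, hπ⟩ := X.exists_perm hnt
    have hmem : X.el (MulAut.conjNormal π a.1) ∈ X.E :=
      hπ a.1 ▸ (mem_normalizer_iff.1 n.2 _).1 (X.el_mem_E a.2.1)
    exact ⟨⟨MulAut.conjNormal π a.1, mem_S₀.1 (X.emb_mem_E.1 hmem),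
      fun h => a.2.2 ((MulEquiv.map_eq_one_iff _).1 h)⟩, hπ a.1⟩
  choose f hf using key
  let F : MulAction.stabilizer X.act.range X.pt → (Q ↪ Q) := fun γ => ⟨f γ, fun a b h => by
    have h' := (hf γ a).trans ((congrArg (fun z : Q => X.el z.1) h).trans (hf γ b).symm)
    have h'' := congrArg Subtype.val (((γ : X.act.range) : Equiv.Perm X.Pt).injective (Subtype.ext h'))
    exact Subtype.ext (X.el_inj h'')⟩
  have hF : Function.Injective F := by
    intro γ δ h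
    have hg : ∀ (γ : MulAction.stabilizer X.act.range X.pt), ∃ n, X.act n = (γ : X.act.range).1 ∧
        (n : G) * X.t = X.t * n := by
      rintro ⟨⟨_, n, rfl⟩, hn⟩
      exact ⟨n, rfl, mul_inv_eq_iff_eq_mul.1
        (congrArg Subtype.val (MulAction.mem_stabilizer_iff.1 hn) :)⟩
    obtain ⟨n, hn, hnt⟩ := hg γ
    obtain ⟨m, hm, hmt⟩ := hg δ
    have hel : ∀ a : A, InV a → (n : G) * X.el a * (n : G)⁻¹ = m * X.el a * (m : G)⁻¹ := by
      intro a ha
      rcases eq_or_ne a 1 with rfl | ha1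
      · simp
      · have hval : f γ ⟨a, ha, ha1⟩ = f δ ⟨a, ha, ha1⟩ := DFunLike.congr_fun h _
        have h1 := hf γ ⟨a, ha, ha1⟩
        have h2 := hf δ ⟨a, ha, ha1⟩
        rw [← hn] at h1
        rw [← hm, ← hval] at h2
        exact h1.trans h2.symm
    refine Subtype.ext (Subtype.ext ?_)
    rw [← hn, ← hm]
    refine Equiv.ext fun ⟨x, hx, _⟩ => Subtype.ext ?_
    show (n : G) * x * (n : G)⁻¹ = m * x * (m : G)⁻¹
    obtain ⟨c, hc, rfl⟩ := hx
    rcases X.emb_split c with h' | h' <;> rw [h']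
    · exact hel _ (mem_S₀.1 hc)
    · rw [← conj_mul, ← conj_mul, hel _ (mem_S₀.1 hc), mul_inv_eq_iff_eq_mul.2 hnt,
        mul_inv_eq_iff_eq_mul.2 hmt]
  calc Nat.card (MulAction.stabilizer X.act.range X.pt) ≤ Nat.card (Q ↪ Q) :=
        Nat.card_le_card_of_injective F hF
    _ = 6 := by rw [Nat.card_eq_fintype_card, Fintype.card_embedding_eq, hQ]; rfl

theorem exists_seven : ∃ p ∈ X.act.range, orderOf p = 7 ∧
    (∀ q ∈ X.act.range, ∃ k : ℕ, q * p * q⁻¹ = p ^ k) ∧ ∀ a b, ∃ i : ℕ, (p ^ i) a = b := by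
  classical
  haveI : Fact (Nat.Prime 7) := ⟨by norm_num⟩
  set Γ := X.act.range
  have horb : MulAction.orbit Γ X.pt = Set.univ := Set.eq_univ_of_forall fun x => by
    obtain ⟨n, hn⟩ := X.act_transitive x
    exact ⟨⟨_, n, rfl⟩, hn⟩
  have hidx : (MulAction.stabilizer Γ X.pt).index = 7 := by
    rw [index_eq_card, ← Nat.card_congr (MulAction.orbitEquivQuotientStabilizer Γ X.pt), horb,
      Nat.card_congr (Equiv.Set.univ _), card_Pt]
  have hcard := card_mul_index (MulAction.stabilizer Γ X.pt)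
  rw [hidx] at hcard
  have hs := X.card_stabilizer_le
  set s := Nat.card (MulAction.stabilizer Γ X.pt)
  have hs0 : 0 < s := Nat.card_pos
  obtain ⟨P⟩ := Sylow.nonempty (p := 7) (G := Γ)
  have hPc : Nat.card (P : Subgroup Γ) = 7 := by
    rw [P.card_eq_multiplicity, ← hcard, Nat.factorization_mul hs0.ne' (by norm_num), Finsupp.add_apply,
      Nat.factorization_eq_zero_of_not_dvd fun h => by have := Nat.le_of_dvd hs0 h; omega,
      Nat.Prime.factorization_self (by norm_num)]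
    rfl
  have hn7 : Nat.card (Sylow 7 Γ) = 1 := by
    have h1 := card_sylow_modEq_one 7 Γ
    have h2 := P.card_dvd_index
    have h3 := card_mul_index (P : Subgroup Γ)
    rw [hPc, ← hcard] at h3
    rw [show (P : Subgroup Γ).index = s by omega] at h2
    have := Nat.le_of_dvd hs0 h2
    rw [Nat.ModEq] at h1
    omega
  haveI : (P : Subgroup Γ).Normal :=
    normalizer_eq_top_iff.1 (index_eq_one.1 (P.card_eq_index_normalizer.symm.trans hn7))
  obtain ⟨g, hg⟩ := exists_prime_orderOf_dvd_card' (G := (P : Subgroup Γ)) 7 (by rw [hPc])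
  have hgo : orderOf (g : Γ) = 7 := by rw [Subgroup.orderOf_coe, hg]
  have hgen : zpowers (g : Γ) = (P : Subgroup Γ) :=
    eq_of_le_of_card_ge (zpowers_le.2 g.2) (by rw [Nat.card_zpowers, hgo, hPc])
  let p : Equiv.Perm X.Pt := ((g : Γ) : Equiv.Perm X.Pt)
  have hp : orderOf p = 7 := (Subgroup.orderOf_coe (g : Γ)).trans hgo
  have hnorm : ∀ q ∈ Γ, ∃ k : ℕ, q * p * q⁻¹ = p ^ k := by
    intro q hq
    have hmem : (⟨q, hq⟩ : Γ) * g * (⟨q, hq⟩ : Γ)⁻¹ ∈ zpowers (g : Γ) := by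
      rw [hgen]
      exact ‹(P : Subgroup Γ).Normal›.conj_mem _ g.2 _
    obtain ⟨k, hk⟩ := (isOfFinOrder_of_finite (g : Γ)).mem_powers_iff_mem_zpowers.2 hmem
    exact ⟨k, (congrArg Subtype.val hk).symm⟩
  refine ⟨p, (g : Γ).2, hp, hnorm, fun a b => ?_⟩
  -- orbits of a transitively normalised group of prime order
  have hone : ∃ c, p c ≠ c := by
    by_contra! h
    rw [show p = 1 from Equiv.ext h, orderOf_one] at hp
    omega
  obtain ⟨c, hc⟩ := hone
  have hinj : Function.Injective fun i : Fin 7 => (p ^ (i : ℕ)) c := by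
    intro i j h
    by_contra hij
    wlog hlt : (i : ℕ) < j generalizing i j
    · exact this h.symm (Ne.symm hij) (by
        have : (i : ℕ) ≠ j := fun h => hij (Fin.ext h)
        omega)
    have hd : (p ^ ((j : ℕ) - i)) c = c := by
      refine (p ^ (i : ℕ)).injective ?_
      rw [← Equiv.Perm.mul_apply, ← pow_add, show (i : ℕ) + (j - i) = j by omega]
      exact h.symm
    have hco : Nat.Coprime ((j : ℕ) - i) 7 := by
      refine ((Nat.Prime.coprime_iff_not_dvd (by norm_num : Nat.Prime 7)).2 fun h => ?_).symm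
      have := Nat.le_of_dvd (by omega) h
      have := j.isLt
      omega
    obtain ⟨m, hm⟩ := exists_pow_eq_self_of_coprime (x := p) (n := (j : ℕ) - i) (by rw [hp]; exact hco)
    refine hc ?_
    rw [← hm]
    clear hm
    induction m with
    | zero => simp
    | succ m ih => rw [pow_succ, Equiv.Perm.mul_apply, hd, ih]
  have hbij : Function.Bijective fun i : Fin 7 => (p ^ (i : ℕ)) c :=
    hinj.bijective_of_nat_card_le (by rw [card_Pt, Nat.card_fin])
  obtain ⟨i, hi⟩ := hbij.2 a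
  obtain ⟨j, hj⟩ := hbij.2 b
  refine ⟨(j : ℕ) + 7 - i, ?_⟩
  rw [← hi, ← hj, ← Equiv.Perm.mul_apply, ← pow_add,
    show (j : ℕ) + 7 - i + i = j + 7 by have := i.isLt; omega, pow_add,
    show p ^ 7 = 1 by rw [← hp, pow_orderOf_eq_one], mul_one]

/-- An element of `N₁` permuting the seven involutions cyclically, with its image normalised. -/
theorem exists_cycle : ∃ (σ : ↥(normalizer (X.E : Set G))), (σ : G) ∈ X.N₁ ∧
    (∃ n ∈ normalizer (X.E : Set G), (σ : G) = ⁅n, X.el x₃⁆) ∧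
    (∀ m, ∃ k : ℕ, X.act m * X.act σ * (X.act m)⁻¹ = X.act σ ^ k) ∧
    (∀ a b, ∃ i : ℕ, (X.act σ ^ i) a = b) ∧ X.act σ ^ 7 = 1 := by
  haveI : Fact (Nat.Prime 7) := ⟨by norm_num⟩
  obtain ⟨_, ⟨n, rfl⟩, hp, hnorm, htr⟩ := X.exists_seven
  set p := X.act n with hpdef
  let τ : ↥(normalizer (X.E : Set G)) := ⟨X.el x₃, X.emb_normalizes x₃_nrm⟩
  have hp7 : p ^ 7 = 1 := by rw [← hp, pow_orderOf_eq_one]
  refine ⟨⁅n, τ⁆, ?_, ⟨n, n.2, rfl⟩, ?_⟩
  · show (n : G) * X.el x₃ * (n : G)⁻¹ * (X.el x₃)⁻¹ ∈ X.N₁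
    exact mul_mem (X.conj_mem_N₁ n.2 X.tau_mem_N₁) (inv_mem X.tau_mem_N₁)
  obtain ⟨k, hk⟩ := hnorm (X.act τ) ⟨τ, rfl⟩
  have hσ : X.act ⁅n, τ⁆ = p ^ (1 + 6 * k) := by
    rw [map_commutatorElement, commutatorElement_def, ← hpdef, pow_add, pow_one, pow_mul',
      show p * X.act τ * p⁻¹ * (X.act τ)⁻¹ = p * (X.act τ * p * (X.act τ)⁻¹)⁻¹ by group, hk]
    congr 1
    refine inv_eq_of_mul_eq_one_right ?_
    rw [← pow_succ', pow_right_comm, hp7, one_pow]
  have hne : X.act ⁅n, τ⁆ ≠ 1 := by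
    intro h
    rw [map_commutatorElement, commutatorElement_eq_one_iff_commute, ← hpdef] at h
    have hfix : X.act τ X.pt = X.pt :=
      Subtype.ext (mul_inv_eq_iff_eq_mul.2 (X.el_comm_t x₃))
    have h1 : X.act τ = 1 := by
      ext c
      obtain ⟨i, rfl⟩ := htr X.pt c
      rw [← Equiv.Perm.mul_apply, (h.symm.pow_right i).eq, Equiv.Perm.mul_apply, hfix,
        Equiv.Perm.one_apply]
    exact x₃_move (X.el_inj (by
      rw [map_mul, map_mul]
      exact X.act_eq_one.1 h1 _ (X.el_mem_E inV_v₄.1)))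
  rw [hσ] at hne ⊢
  have hco : (1 + 6 * k).Coprime (orderOf p) := by
    rw [hp]
    refine ((Nat.Prime.coprime_iff_not_dvd (by norm_num : Nat.Prime 7)).2 fun hd => hne ?_).symm
    obtain ⟨j, hj⟩ := hd
    rw [hj, pow_mul, hp7, one_pow]
  obtain ⟨m, hm⟩ := exists_pow_eq_self_of_coprime hco
  refine ⟨fun q => ?_, fun a b => ?_, ?_⟩
  · obtain ⟨l, hl⟩ := hnorm (X.act q) ⟨q, rfl⟩
    exact ⟨l, by rw [← conj_pow, hl, ← pow_mul, ← pow_mul, mul_comm]⟩
  · obtain ⟨i, hi⟩ := htr a b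
    exact ⟨m * i, by rw [pow_mul, hm]; exact hi⟩
  · rw [pow_right_comm, hp7, one_pow]

/-- No element of the centraliser of `t` induces an outer automorphism. -/
theorem false_of_swap {c : G} (hct : c * X.t = X.t * c)
    (hc : ∀ a, c * X.el a * c⁻¹ = X.el (MulAut.conjNormal (Equiv.swap (0 : Fin 5) 1) a)) : False := by
  haveI : Fact (Nat.Prime 7) := ⟨by norm_num⟩
  obtain ⟨σ, -, -, hnorm, htr, h7⟩ := X.exists_cycle
  have key : ∀ x ∈ X.E, c * x * c⁻¹ ∈ X.E := by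
    rintro _ ⟨v, hv, rfl⟩
    rcases X.emb_split v with h | h <;> rw [h]
    · rw [hc]; exact X.el_mem_E (swap_V _ (mem_S₀.1 hv))
    · rw [← conj_mul, hc, mul_inv_eq_iff_eq_mul.2 hct]
      exact mul_mem X.t_mem_E (X.el_mem_E (swap_V _ (mem_S₀.1 hv)))
  have hn : c ∈ normalizer (X.E : Set G) := by
    have hmap : X.E.map (MulAut.conj c).toMonoidHom = X.E :=
      eq_of_le_of_card_ge (map_le_iff_le_comap.2 fun x hx => key x hx)
        (card_map_of_injective (K := X.E) (MulAut.conj c).injective).ge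
    refine mem_normalizer_iff.2 fun y => ⟨key y, fun h => ?_⟩
    obtain ⟨z, hz, he⟩ := hmap.ge h
    rwa [show z = y from (MulAut.conj c).injective he] at hz
  let u : ↥(normalizer (X.E : Set G)) := ⟨c, hn⟩
  obtain ⟨k, hk⟩ := hnorm u
  let q : X.Pt := ⟨X.el v₄, X.el_mem_E inV_v₄.1,
    fun h => inV_v₄.2 (X.el_inj (h.trans (map_one _).symm))⟩
  have hu : X.act u = 1 := by
    refine eq_one_of_two_fixed htr h7 hk (a := X.pt) (b := q) ?_
      (Subtype.ext (mul_inv_eq_iff_eq_mul.2 hct)) (Subtype.ext ((hc v₄).trans (by rw [swap_fix])))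
    intro h
    have h' : X.emb t₀ = X.emb (1, v₄) := X.emb_t₀.trans (congrArg Subtype.val h)
    exact v₄_ne (X.emb_inj h').symm
  obtain ⟨v, hv, hmove⟩ := swap_move
  refine hmove (X.el_inj ?_)
  rw [← hc]
  exact mul_inv_eq_iff_eq_mul.2 (X.act_eq_one.1 hu _ (X.el_mem_E hv))

end Hyp

end Cfsg.Agent.Coprime.J1.Closure
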