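import Cfsg.Agent.Coprime.J1.Closure.Seven

/-!
# The splitting `C(t) = W × R`
-/

set_option autoImplicit false
set_option linter.unusedSectionVars false
set_option linter.style.haveILetI false

namespace Cfsg.Agent.Coprime.J1.Closure.Hyp

open Subgroup
open scoped commutatorElement

variable {G : Type*} [Group G] [Finite G] (X : Hyp G)

/-- A fixed element of `N₁` cycling the seven involutions. -/
noncomputable def cyc : ↥(normalizer (X.E : Set G)) := Classical.choose X.exists_cycle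

/-- The fixed element, in the group. -/
noncomputable def σ : G := X.cyc

theorem σ_mem : X.σ ∈ normalizer (X.E : Set G) := X.cyc.2

theorem σ_mem_N₁ : X.σ ∈ X.N₁ := (Classical.choose_spec X.exists_cycle).1

theorem σ_eq : ∃ n ∈ normalizer (X.E : Set G), X.σ = ⁅n, X.el x₃⁆ :=
  (Classical.choose_spec X.exists_cycle).2.1

theorem σ_transitive (a b : X.Pt) : ∃ i : ℕ, (X.act X.cyc ^ i) a = b :=
  (Classical.choose_spec X.exists_cycle).2.2.2.1 a b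

theorem σ_normal (m : ↥(normalizer (X.E : Set G))) :
    ∃ k : ℕ, X.act m * X.act X.cyc * (X.act m)⁻¹ = X.act X.cyc ^ k :=
  (Classical.choose_spec X.exists_cycle).2.2.1 m

theorem σ_orbit {x : G} (hx : x ∈ X.E) (h1 : x ≠ 1) :
    ∃ i : ℕ, X.σ ^ i * X.t * (X.σ ^ i)⁻¹ = x := by
  obtain ⟨i, hi⟩ := X.σ_transitive X.pt ⟨x, hx, h1⟩
  refine ⟨i, ?_⟩
  rw [← map_pow] at hi
  exact congrArg Subtype.val hi

theorem σ_free {x : G} (hx : x ∈ X.E) (h : X.σ * x = x * X.σ) : x = 1 := by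
  by_contra h1
  let q : X.Pt := ⟨x, hx, h1⟩
  have hq : X.act X.cyc q = q := Subtype.ext (mul_inv_eq_iff_eq_mul.2 h)
  have hall : ∀ b, b = q := fun b => by
    obtain ⟨i, rfl⟩ := X.σ_transitive q b
    induction i with
    | zero => rfl
    | succ i ih => rw [pow_succ, Equiv.Perm.mul_apply, hq, ih]
  have h7 := X.card_Pt
  rw [show Nat.card X.Pt = 1 from Nat.card_eq_one_iff_unique.2
    ⟨⟨fun a b => (hall a).trans (hall b).symm⟩, ⟨q⟩⟩] at h7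
  omega

/-- The complement of `E` in its centraliser. -/
noncomputable def R : Subgroup G := centralizer (X.E : Set G) ⊓ centralizer ({X.σ} : Set G)

theorem mem_CE {c : G} : c ∈ centralizer (X.E : Set G) ↔ ∀ x ∈ X.E, c * x = x * c := by
  rw [mem_centralizer_iff]
  exact ⟨fun h x hx => (h x hx).symm, fun h x hx => (h x hx).symm⟩

theorem mem_R {r : G} : r ∈ X.R ↔ (∀ x ∈ X.E, r * x = x * r) ∧ r * X.σ = X.σ * r := by
  rw [R, mem_inf, mem_CE, mem_centralizer_singleton_iff]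

theorem K_comm_E {k : G} (hk : k ∈ X.K) : ∀ x ∈ X.E, k * x = x * k := fun _ hx =>
  X.comm_K_W hk (X.E_le_W hx)

theorem R_inf_E {x : G} (hr : x ∈ X.R) (hx : x ∈ X.E) : x = 1 :=
  X.σ_free hx (X.mem_R.1 hr).2.symm

theorem split_E {c : G} (hc : ∀ x ∈ X.E, c * x = x * c) : ∃ e ∈ X.E, ∃ r ∈ X.R, c = e * r := by
  let f : X.E → X.E := fun x => ⟨X.σ * x * X.σ⁻¹ * (x : G)⁻¹,
    mul_mem ((mem_normalizer_iff.1 X.σ_mem _).1 x.2) (inv_mem x.2)⟩
  have hf : Function.Injective f := by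
    intro x y h
    have h' : X.σ * x * X.σ⁻¹ * (x : G)⁻¹ = X.σ * y * X.σ⁻¹ * (y : G)⁻¹ := congrArg Subtype.val h
    have hxy : X.σ * ((y : G)⁻¹ * x) = (y : G)⁻¹ * x * X.σ := by
      have hc := X.E_comm (inv_mem y.2) x.2
      calc X.σ * ((y : G)⁻¹ * x)
          = (X.σ * y * X.σ⁻¹)⁻¹ * (X.σ * x * X.σ⁻¹ * (x : G)⁻¹) * x * X.σ := by group
        _ = (X.σ * y * X.σ⁻¹)⁻¹ * (X.σ * y * X.σ⁻¹ * (y : G)⁻¹) * x * X.σ := by rw [h']
        _ = (y : G)⁻¹ * x * X.σ := by group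
    exact Subtype.ext (inv_mul_eq_one.1 (X.σ_free (mul_mem (inv_mem y.2) x.2) hxy)).symm
  obtain ⟨e, he⟩ := (Finite.injective_iff_surjective.1 hf) ⟨_, X.σ_mem_N₁.2 c hc⟩
  have he' : X.σ * e * X.σ⁻¹ * (e : G)⁻¹ = X.σ * c * X.σ⁻¹ * c⁻¹ := congrArg Subtype.val he
  refine ⟨e, e.2, (e : G)⁻¹ * c, X.mem_R.2 ⟨fun x hx => ?_, ?_⟩, by group⟩
  · rw [mul_assoc, hc x hx, ← mul_assoc, ← mul_assoc, X.E_comm (inv_mem e.2) hx]
  · calc (e : G)⁻¹ * c * X.σ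
        = (e : G)⁻¹ * (X.σ * c * X.σ⁻¹ * c⁻¹)⁻¹ * (X.σ * c) := by group
      _ = (e : G)⁻¹ * (X.σ * e * X.σ⁻¹ * (e : G)⁻¹)⁻¹ * (X.σ * c) := by rw [he']
      _ = X.σ * ((e : G)⁻¹ * c) := by group

/-- The derived subgroup of `C(E)` avoids `E`. -/
theorem commutator_CE_inf {c d : G} (hc : ∀ x ∈ X.E, c * x = x * c) (hd : ∀ x ∈ X.E, d * x = x * d)
    (h : ⁅c, d⁆ ∈ X.E) : ⁅c, d⁆ = 1 := by
  by_contra h1
  set CE := centralizer (X.E : Set G)
  have hle : ⁅CE, CE⁆ ≤ X.K := by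
    refine commutator_le.2 fun a ha b hb => ?_
    obtain ⟨v, hv, k, hk, rfl⟩ := X.split_CE (X.mem_CE.1 ha)
    obtain ⟨w, hw, m, hm, rfl⟩ := X.split_CE (X.mem_CE.1 hb)
    have h1 : k * X.el w = X.el w * k := (X.mem_K.1 hk).1 w
    have h2 : m * X.el v = X.el v * m := (X.mem_K.1 hm).1 v
    have h3 : X.el v * X.el w = X.el w * X.el v := X.E_comm (X.el_mem_E hv) (X.el_mem_E hw)
    have heq : ⁅X.el v * k, X.el w * m⁆ = ⁅k, m⁆ := by
      have e1 : X.el v * k * (X.el w * m) = X.el w * X.el v * (k * m) := by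
        rw [mul_assoc, ← mul_assoc k, h1, mul_assoc, ← mul_assoc (X.el v), h3]
      have e2 : X.el w * m * (X.el v * k) = X.el w * X.el v * (m * k) := by
        rw [mul_assoc, ← mul_assoc m, h2, mul_assoc, ← mul_assoc]
      rw [commutatorElement_def,
        show X.el v * k * (X.el w * m) * (X.el v * k)⁻¹ * (X.el w * m)⁻¹ =
          X.el v * k * (X.el w * m) * (X.el w * m * (X.el v * k))⁻¹ by group, e1, e2]
      have hkV : Commute (X.el w * X.el v) (k * m * (m * k)⁻¹) := by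
        have hh : ∀ z ∈ X.K, Commute (X.el w * X.el v) z := fun z hz =>
          Commute.mul_left (show Commute (X.el w) z from ((X.mem_K.1 hz).1 w).symm)
            (show Commute (X.el v) z from ((X.mem_K.1 hz).1 v).symm)
        exact hh _ (mul_mem (mul_mem hk hm) (inv_mem (mul_mem hm hk)))
      rw [show X.el w * X.el v * (k * m) * (X.el w * X.el v * (m * k))⁻¹ =
          X.el w * X.el v * (k * m * (m * k)⁻¹) * (X.el w * X.el v)⁻¹ by group, hkV.eq]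
      group
    rw [heq, commutatorElement_def]
    exact mul_mem (mul_mem (mul_mem hk hm) (inv_mem hk)) (inv_mem hm)
  have hinv : ∀ n ∈ normalizer (X.E : Set G), ∀ x ∈ ⁅CE, CE⁆, n * x * n⁻¹ ∈ ⁅CE, CE⁆ := by
    intro n hn x hx
    have hm : ⁅CE, CE⁆.map (MulAut.conj n).toMonoidHom ≤ ⁅CE, CE⁆ := by
      rw [map_commutator]
      refine commutator_mono ?_ ?_ <;>
      · rintro _ ⟨y, hy, rfl⟩
        exact X.mem_CE.2 (X.conj_comm_E hn (X.mem_CE.1 hy))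
    exact hm ⟨x, hx, rfl⟩
  have hmem : ⁅c, d⁆ ∈ ⁅CE, CE⁆ := commutator_mem_commutator (X.mem_CE.2 hc) (X.mem_CE.2 hd)
  obtain ⟨n, hn, hnt⟩ := X.exists_conj_t h h1
  have hne : X.el v₄ ≠ 1 := fun h => inV_v₄.2 (X.el_inj (h.trans (map_one _).symm))
  obtain ⟨m, hm, hmv⟩ := X.exists_conj_t (X.el_mem_E inV_v₄.1) hne
  have ht : X.t ∈ ⁅CE, CE⁆ := by
    have := hinv _ (inv_mem hn) _ hmem
    rwa [← hnt, show n⁻¹ * (n * X.t * n⁻¹) * n⁻¹⁻¹ = X.t by group] at this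
  have hv : X.el v₄ ∈ X.K := hmv ▸ hle (hinv m hm _ ht)
  exact x₃_move (X.el_inj (by rw [map_mul, map_mul]; exact ((X.mem_K.1 hv).1 x₃).symm))

theorem R_conj {n : G} (hn : n ∈ normalizer (X.E : Set G)) {r : G} (hr : r ∈ X.R) :
    n * r * n⁻¹ ∈ X.R := by
  obtain ⟨hrE, hrσ⟩ := X.mem_R.1 hr
  refine X.mem_R.2 ⟨X.conj_comm_E hn hrE, ?_⟩
  obtain ⟨k, hk⟩ := X.σ_normal ⟨n⁻¹, inv_mem hn⟩
  rw [← map_pow, ← map_inv, ← map_mul, ← map_mul, ← mul_inv_eq_one, ← map_inv, ← map_mul,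
    act_eq_one] at hk
  set σ' := n⁻¹ * X.σ * n⁻¹⁻¹ with hσ'
  set c₀ := σ' * (X.σ ^ k)⁻¹ with hc₀
  have hcE : ∀ x ∈ X.E, c₀ * x = x * c₀ := hk
  have hcN : c₀ ∈ X.N₁ :=
    mul_mem (X.conj_mem_N₁ (inv_mem hn) X.σ_mem_N₁) (inv_mem (pow_mem X.σ_mem_N₁ k))
  have hcr : c₀ * r = r * c₀ :=
    commutatorElement_eq_one_iff_mul_comm.1 (X.commutator_CE_inf hcE hrE (hcN.2 r hrE))
  have hσr : Commute σ' r := by
    rw [show σ' = c₀ * X.σ ^ k by rw [hc₀]; group]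
    exact (show Commute c₀ r from hcr).mul_left ((show Commute X.σ r from hrσ.symm).pow_left k)
  have h := hσr.eq
  rw [hσ'] at h
  calc n * r * n⁻¹ * X.σ = n * (r * (n⁻¹ * X.σ * n⁻¹⁻¹)) * n⁻¹ := by group
    _ = n * (n⁻¹ * X.σ * n⁻¹⁻¹ * r) * n⁻¹ := by rw [h]
    _ = X.σ * (n * r * n⁻¹) := by group

theorem R_le_K : X.R ≤ X.K := by
  intro r hr
  obtain ⟨hrE, -⟩ := X.mem_R.1 hr
  obtain ⟨v, hv, k, hk, hvk⟩ := X.split_CE hrE
  have hτ := X.emb_normalizes x₃_nrm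
  have hd : X.el x₃ * r * (X.el x₃)⁻¹ * r⁻¹ = 1 :=
    X.R_inf_E (mul_mem (X.R_conj hτ hr) (inv_mem hr)) (X.tau_mem_N₁.2 r hrE)
  have hk3 : k * X.el x₃ = X.el x₃ * k := (X.mem_K.1 hk).1 x₃
  have hv1 : v = 1 := by
    refine x₃_fixed v hv (X.el_inj ?_)
    rw [map_mul, map_mul]
    refine mul_right_cancel (b := k) ?_
    rw [mul_inv_eq_one, mul_inv_eq_iff_eq_mul, hvk] at hd
    calc X.el x₃ * X.el v * k = X.el x₃ * (X.el v * k) := mul_assoc _ _ _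
      _ = X.el v * k * X.el x₃ := hd
      _ = X.el v * X.el x₃ * k := by rw [mul_assoc, hk3, ← mul_assoc]
  rw [hvk, hv1, map_one, one_mul]
  exact hk

theorem R_comm_W {r w : G} (hr : r ∈ X.R) (hw : w ∈ X.W) : r * w = w * r :=
  X.comm_K_W (X.R_le_K hr) hw

theorem R_comm_t {r : G} (hr : r ∈ X.R) : r * X.t = X.t * r := X.R_comm_W hr (mem_wcl_self _)

theorem R_inf_W {x : G} (hr : x ∈ X.R) (hw : x ∈ X.W) : x = 1 := by
  obtain ⟨c, rfl⟩ := X.exists_emb hw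
  refine X.R_inf_E hr (X.emb_mem_E.2 (centralize_S₀ c fun s hs => X.emb_inj ?_))
  rw [map_mul, map_mul]
  exact (X.mem_R.1 hr).1 _ (X.emb_mem_E.2 hs)

theorem inner {c : G} (hct : c * X.t = X.t * c) : ∃ a : A, (X.el a)⁻¹ * c ∈ X.K := by
  obtain ⟨π, hπ⟩ := X.exists_perm hct
  obtain ⟨a, ha⟩ := perm_split π
  have hat : ∀ a : A, (X.el a)⁻¹ * c * X.t = X.t * ((X.el a)⁻¹ * c) := fun a =>
    ((Commute.inv_left (X.el_comm_t a)).mul_left (hct : Commute c X.t) : Commute _ _).eq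
  rcases ha with ha | ha
  · refine ⟨a, X.mem_K.2 ⟨fun b => ?_, hat a⟩⟩
    have h := hπ b
    rw [ha, conjNormal_el, map_mul, map_mul, map_inv] at h
    calc (X.el a)⁻¹ * c * X.el b = (X.el a)⁻¹ * (c * X.el b * c⁻¹) * c := by group
      _ = (X.el a)⁻¹ * (X.el a * X.el b * (X.el a)⁻¹) * c := by rw [h]
      _ = X.el b * ((X.el a)⁻¹ * c) := by group
  · exfalso
    refine X.false_of_swap (hat a) fun b => ?_
    have h := hπ b
    rw [ha, map_mul, MulAut.mul_apply, conjNormal_el, map_mul, map_mul, map_inv] at h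
    calc (X.el a)⁻¹ * c * X.el b * ((X.el a)⁻¹ * c)⁻¹
        = (X.el a)⁻¹ * (c * X.el b * c⁻¹) * X.el a := by group
      _ = _ := by rw [h]; group

/-- The centraliser of `t` is `W × R`. -/
theorem split_C {c : G} (hct : c * X.t = X.t * c) : ∃ w ∈ X.W, ∃ r ∈ X.R, c = w * r := by
  obtain ⟨a, ha⟩ := X.inner hct
  obtain ⟨e, he, r, hr, her⟩ := X.split_E (X.K_comm_E ha)
  refine ⟨X.el a * e, mul_mem (X.emb_mem_W _) (X.E_le_W he), r, hr, ?_⟩
  rw [mul_assoc, ← her]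
  group

theorem R_conj_C {c : G} (hct : c * X.t = X.t * c) {r : G} (hr : r ∈ X.R) : c * r * c⁻¹ ∈ X.R := by
  obtain ⟨w, hw, s, hs, rfl⟩ := X.split_C hct
  have h : w * s * r * (w * s)⁻¹ = s * r * s⁻¹ := by
    have hm := X.R_comm_W (mul_mem (mul_mem hs hr) (inv_mem hs)) hw
    calc w * s * r * (w * s)⁻¹ = w * (s * r * s⁻¹) * w⁻¹ := by group
      _ = s * r * s⁻¹ * w * w⁻¹ := by rw [hm]
      _ = s * r * s⁻¹ := by group
  rw [h]
  exact mul_mem (mul_mem hs hr) (inv_mem hs)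

end Cfsg.Agent.Coprime.J1.Closure.Hyp
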